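import Cfsg.Agent.Lib.Helper7.AutPSp.Kernel
import Mathlib

/-!
# Normality of `Inndiag(PSp)` in `Aut(PSp)` (helper7)

From the factorisation of every automorphism as inner-diagonal times field (`FacSp`, a consequence of
`gammaPSp m F = ⊤`), or directly in characteristic 2 (where `Inndiag = Inn`).
-/

set_option autoImplicit false

namespace Cfsg.Agent.Lib.H7AutPSp

open Matrix Cfsg Cfsg.Agent.Lib.Helper5.Symp

variable {m : ℕ} {F : Type*} [Field F]

/-- every automorphism is inner-diagonal times field -/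
def FacSp (m : ℕ) (F : Type*) [Field F] : Prop :=
  ∀ β : MulAut (PSpm m F), ∃ (g : ↥(Cfsg.GSp m F)) (σ : RingAut F), β = DhSp g * PhSp σ

/-- the automorphisms induced by semilinear conformal symplectic maps -/
noncomputable def semiSub (m : ℕ) (F : Type*) [Field F] : Subgroup (MulAut (PSpm m F)) where
  carrier := {β | ∃ (g : ↥(Cfsg.GSp m F)) (σ : RingAut F), β = DhSp g * PhSp σ}
  one_mem' := ⟨1, 1, by rw [map_one, map_one, mul_one]⟩
  mul_mem' := by
    rintro _ _ ⟨g, σ, rfl⟩ ⟨g', σ', rfl⟩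
    refine ⟨g * gmapSp σ g', σ * σ', ?_⟩
    rw [map_mul, map_mul]
    calc DhSp g * PhSp σ * (DhSp g' * PhSp σ')
        = DhSp g * (PhSp σ * DhSp g') * PhSp σ' := by simp only [mul_assoc]
      _ = _ := by rw [PhSp_DhSp]; simp only [mul_assoc]
  inv_mem' := by
    rintro _ ⟨g, σ, rfl⟩
    refine ⟨gmapSp σ⁻¹ g⁻¹, σ⁻¹, ?_⟩
    rw [← PhSp_DhSp, _root_.mul_inv_rev, map_inv, map_inv]

theorem facSp_of_gamma (h : Cfsg.gammaPSp m F = ⊤) : FacSp m F := by
  intro β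
  have hle : Cfsg.gammaPSp m F ≤ semiSub m F := by
    unfold Cfsg.gammaPSp Cfsg.autSubgroupOf
    rw [Subgroup.closure_le]
    rintro β ⟨g, σ, hg, hβ⟩
    exact ⟨⟨g, hg⟩, σ, (semilinear_iff ⟨g, hg⟩ σ β).1 hβ⟩
  rw [h] at hle
  exact hle (Subgroup.mem_top β)

theorem DhSp_range_normal (hfac : FacSp m F) :
    ((DhSp : ↥(Cfsg.GSp m F) →* MulAut (PSpm m F)).range).Normal := by
  constructor
  rintro _ ⟨h, rfl⟩ β
  obtain ⟨g, σ, rfl⟩ := hfac β
  refine ⟨g * gmapSp σ h * g⁻¹, ?_⟩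
  rw [map_mul, map_mul, map_inv, _root_.mul_inv_rev]
  calc DhSp g * DhSp (gmapSp σ h) * (DhSp g)⁻¹
      = DhSp g * (DhSp (gmapSp σ h) * PhSp σ) * (PhSp σ)⁻¹ * (DhSp g)⁻¹ := by
        simp only [mul_assoc, mul_inv_cancel_left]
    _ = _ := by rw [← PhSp_DhSp]; simp only [mul_assoc]

end Cfsg.Agent.Lib.H7AutPSp
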