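import Cfsg.Agent.Lib.Helper7.AutPSL.Hilbert90
import Mathlib

/-!
# Hilbert's Theorem 90 for `GL(ι, F)` with an arbitrary finite index type (helper7)

The same proof as `Cfsg.Agent.Lib.H7AutPSL.hilbert90_matrix`, for matrices indexed by any finite type.
-/

set_option autoImplicit false

namespace Cfsg.Agent.Lib.H7AutPSp

open Matrix Cfsg.Agent.Lib.H7AutPSL

set_option linter.unusedSectionVars false

variable {ι : Type*} [Fintype ι] [DecidableEq ι] {F : Type*} [Field F]

/-- the semilinear map `v ↦ g σ(v)` -/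
def semiMapG (σ : RingAut F) (g : Matrix ι ι F) (v : ι → F) : ι → F :=
  g *ᵥ (fun i => σ (v i))

theorem semiMapG_add (σ : RingAut F) (g : Matrix ι ι F) (v w : ι → F) :
    semiMapG σ g (v + w) = semiMapG σ g v + semiMapG σ g w := by
  unfold semiMapG
  rw [← Matrix.mulVec_add]
  congr 1
  ext i
  simp

theorem semiMapG_smul (σ : RingAut F) (g : Matrix ι ι F) (t : F) (v : ι → F) :
    semiMapG σ g (t • v) = σ t • semiMapG σ g v := by
  unfold semiMapG
  rw [← Matrix.mulVec_smul]
  congr 1
  ext i
  simp

theorem semiMapG_zero (σ : RingAut F) (g : Matrix ι ι F) :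
    semiMapG σ g 0 = 0 := by
  unfold semiMapG
  have : (fun i => σ ((0 : ι → F) i)) = 0 := by ext i; simp
  rw [this, Matrix.mulVec_zero]

theorem semiMapG_sum (σ : RingAut F) (g : Matrix ι ι F) {κ : Type*} (s : Finset κ)
    (v : κ → ι → F) : semiMapG σ g (∑ k ∈ s, v k) = ∑ k ∈ s, semiMapG σ g (v k) := by
  classical
  induction s using Finset.induction_on with
  | empty => rw [Finset.sum_empty, Finset.sum_empty, semiMapG_zero]
  | insert a s ha ih => rw [Finset.sum_insert ha, Finset.sum_insert ha, semiMapG_add, ih]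

theorem semiMapG_iterate_smul (σ : RingAut F) (g : Matrix ι ι F) (k : ℕ) (t : F)
    (v : ι → F) : (semiMapG σ g)^[k] (t • v) = (σ ^ k) t • (semiMapG σ g)^[k] v := by
  induction k with
  | zero => rfl
  | succ k ih =>
    rw [Function.iterate_succ_apply', Function.iterate_succ_apply', ih, semiMapG_smul, pow_succ']
    rfl

/-- the partial norms `g σ(g) ⋯ σ^{k-1}(g)` -/
def pnormG (σ : RingAut F) (g : Matrix ι ι F) : ℕ → Matrix ι ι F
  | 0 => 1
  | k + 1 => g * (pnormG σ g k).map σ

theorem map_mulVecG (σ : RingAut F) (A : Matrix ι ι F) (w : ι → F) :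
    (fun i => σ ((A *ᵥ w) i)) = A.map σ *ᵥ (fun i => σ (w i)) := by
  ext i
  simp only [Matrix.mulVec, dotProduct, map_sum, map_mul, Matrix.map_apply]

theorem semiMapG_iterate (σ : RingAut F) (g : Matrix ι ι F) (k : ℕ) (v : ι → F) :
    (semiMapG σ g)^[k] v = pnormG σ g k *ᵥ (fun i => (σ ^ k) (v i)) := by
  induction k with
  | zero =>
    show v = (1 : Matrix ι ι F) *ᵥ _
    rw [Matrix.one_mulVec]
    rfl
  | succ k ih =>
    rw [Function.iterate_succ_apply', ih]
    show g *ᵥ (fun i => σ ((pnormG σ g k *ᵥ fun i => (σ ^ k) (v i)) i)) =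
      (g * (pnormG σ g k).map σ) *ᵥ _
    rw [map_mulVecG, Matrix.mulVec_mulVec, pow_succ']
    rfl

/-- **Hilbert's Theorem 90 for `GL(ι, F)`**, for the cyclic group generated by a field automorphism of
order `r`: a matrix of norm one is `P σ(P)⁻¹`. -/
theorem hilbert90_matrixG (σ : RingAut F) (r : ℕ) (hr : 0 < r) (hσ : σ ^ r = 1)
    (hinj : ∀ i j, i < r → j < r → σ ^ i = σ ^ j → i = j) (g : Matrix ι ι F)
    (hN : pnormG σ g r = 1) :
    ∃ P : Matrix ι ι F, IsUnit P ∧ g * P.map σ = P := by
  have hψr : ∀ v, (semiMapG σ g)^[r] v = v := by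
    intro v
    rw [semiMapG_iterate, hN, hσ, Matrix.one_mulVec]
    rfl
  -- the trace map lands in the fixed points
  have hT : ∀ v, semiMapG σ g (∑ i ∈ Finset.range r, (semiMapG σ g)^[i] v) =
      ∑ i ∈ Finset.range r, (semiMapG σ g)^[i] v := by
    intro v
    rw [semiMapG_sum]
    have e1 : ∀ i, semiMapG σ g ((semiMapG σ g)^[i] v) = (semiMapG σ g)^[i + 1] v := by
      intro i
      rw [Function.iterate_succ_apply']
    simp only [e1]
    have e2 := Finset.sum_range_succ (fun i => (semiMapG σ g)^[i] v) r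
    have e3 := Finset.sum_range_succ' (fun i => (semiMapG σ g)^[i] v) r
    rw [e3, hψr] at e2
    simp only [Function.iterate_zero, id_eq] at e2
    exact add_right_cancel e2
  -- the fixed points span
  have hspan : Submodule.span F {w : ι → F | semiMapG σ g w = w} = ⊤ := by
    by_contra hne
    obtain ⟨f, hf0, hfle⟩ := Submodule.exists_le_ker_of_lt_top _ (lt_top_iff_ne_top.2 hne)
    apply hf0
    apply LinearMap.ext
    intro v
    have key : ∀ t : F, ∑ i ∈ Finset.range r, f ((semiMapG σ g)^[i] v) * (σ ^ i) t = 0 := by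
      intro t
      have h1 : (∑ i ∈ Finset.range r, (semiMapG σ g)^[i] (t • v)) ∈
          Submodule.span F {w : ι → F | semiMapG σ g w = w} :=
        Submodule.subset_span (hT (t • v))
      have h2 := hfle h1
      rw [LinearMap.mem_ker, map_sum] at h2
      rw [← h2]
      apply Finset.sum_congr rfl
      intro i _
      rw [semiMapG_iterate_smul, map_smul, smul_eq_mul, mul_comm]
    have := aut_pow_independent σ r hinj (fun i => f ((semiMapG σ g)^[i] v)) key 0 hr
    exact this
  -- extract a basis
  obtain ⟨b, hbV, hbspan, hbli⟩ :=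
    exists_linearIndependent F {w : ι → F | semiMapG σ g w = w}
  rw [hspan] at hbspan
  let bs : Module.Basis b F (ι → F) :=
    Module.Basis.mk hbli (by rw [Subtype.range_coe]; exact hbspan.ge)
  have hfin : Finite b := Module.Finite.finite_basis bs
  let _ : Fintype b := Fintype.ofFinite b
  have hcard : Fintype.card b = Fintype.card ι := by
    rw [← Module.finrank_eq_card_basis bs, Module.finrank_fintype_fun_eq_card]
  let e : b ≃ ι := Fintype.equivOfCardEq hcard
  refine ⟨Matrix.of (fun i k => (e.symm k : ι → F) i), ?_, ?_⟩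
  · rw [← Matrix.linearIndependent_cols_iff_isUnit]
    exact hbli.comp e.symm e.symm.injective
  · ext i k
    have hk : semiMapG σ g (e.symm k : ι → F) = (e.symm k : ι → F) := hbV (e.symm k).2
    have := congrFun hk i
    rw [Matrix.of_apply, ← this]
    simp only [semiMapG, Matrix.mul_apply, Matrix.mulVec, dotProduct, Matrix.map_apply,
      Matrix.of_apply]

/-- partial norms of a scalar multiple -/
theorem pnormG_smul (σ : RingAut F) (c : F) (M : Matrix ι ι F) (k : ℕ) :
    pnormG σ (c • M) k = fnorm σ c k • pnormG σ M k := by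
  induction k with
  | zero =>
    show (1 : Matrix ι ι F) = fnorm σ c 0 • 1
    rw [fnorm_zero, one_smul]
  | succ k ih =>
    show (c • M) * (pnormG σ (c • M) k).map σ = fnorm σ c (k + 1) • (M * (pnormG σ M k).map σ)
    rw [ih, fnorm_succ']
    have : (fnorm σ c k • pnormG σ M k).map σ = σ (fnorm σ c k) • (pnormG σ M k).map σ := by
      ext i j
      simp
    rw [this, Matrix.smul_mul, Matrix.mul_smul, smul_smul]

end Cfsg.Agent.Lib.H7AutPSp
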