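import Cfsg.Agent.Lib.Helper7.AutPSp.Kernel
import Cfsg.Agent.Lib.Helper7.AutPSp.Hilbert90Gen
import Mathlib

/-!
# A nontrivial standard field automorphism of `PSp` is not inner-diagonal (helper7)
-/

set_option autoImplicit false

namespace Cfsg.Agent.Lib.H7AutPSp

open Matrix Cfsg Cfsg.Agent.Lib.Helper5.Symp

variable {m : ℕ} {F : Type*} [Field F]

theorem map_sympTransvection (σ : RingAut F) (v : Fin m ⊕ Fin m → F) (c : F) :
    (sympTransvection m v c).map σ = sympTransvection m (fun i => σ (v i)) (σ c) := by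
  have hJ : ∀ j, σ ((J (Fin m) F *ᵥ v) j) = (J (Fin m) F *ᵥ fun i => σ (v i)) j := by
    intro j
    have h1 := congrFun (map_mulVecG σ (J (Fin m) F) v) j
    have h2 : (J (Fin m) F).map σ = J (Fin m) F := J_map' (σ : F →+* F)
    rw [h2] at h1
    exact h1
  ext i j
  unfold sympTransvection
  simp only [Matrix.map_apply, Matrix.add_apply, Matrix.smul_apply, Matrix.vecMulVec_apply,
    smul_eq_mul, map_add, map_mul, hJ]
  congr 1
  rw [Matrix.one_apply]
  split_ifs
  · exact map_one σ
  · exact map_zero σ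

/-- **a standard field automorphism which is inner-diagonal is trivial** -/
theorem PhSp_inj (hm : 1 ≤ m) (σ : RingAut F)
    (h : (PhSp σ : MulAut (PSpm m F)) ∈ (DhSp : ↥(Cfsg.GSp m F) →* MulAut (PSpm m F)).range) :
    σ = 1 := by
  obtain ⟨g, hg⟩ := h
  obtain ⟨e, he⟩ : ∃ e : Fin m ⊕ Fin m → F, e = Pi.single (Sum.inl ⟨0, hm⟩) 1 := ⟨_, rfl⟩
  have he0 : e ≠ 0 := by
    intro h0
    have := congrFun h0 (Sum.inl ⟨0, hm⟩)
    rw [he, Pi.single_eq_same, Pi.zero_apply] at this
    exact one_ne_zero this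
  have heσ : (fun i => σ (e i)) = e := by
    ext i
    rw [he, Pi.single_apply]
    split_ifs
    · exact map_one σ
    · exact map_zero σ
  have key : ∀ c : F, g.1.val * sympTransvection m e c * g.1⁻¹.val =
      sympTransvection m e (σ c) := by
    intro c
    have h1 : (prC (fieldSpFun σ (sympT m e c)) : PSpm m F) = prC (conjSpFun g (sympT m e c)) := by
      rw [← PhSp_pr, ← DhSp_pr, hg]
    obtain ⟨a, ha⟩ := val_of_prC_eq _ _ h1
    rw [fieldSpFun_val, conjSpFun_val] at ha
    have ha' : (sympTransvection m e c).map σ =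
        a • (g.1.val * sympTransvection m e c * g.1⁻¹.val) := ha
    rw [map_sympTransvection, heσ] at ha'
    have : a = 1 :=
      transvection_conj_scalar g.1 e he0 c (σ c) a 1 (by rw [one_smul]; exact ha'.symm)
    rw [this, one_smul] at ha'
    exact ha'.symm
  have hN : ∀ c : F, sympTransvection m e c = 1 + c • vecMulVec e (J (Fin m) F *ᵥ e) :=
    fun c => rfl
  have hgg : g.1.val * g.1⁻¹.val = 1 := by
    rw [← Units.val_mul, mul_inv_cancel, Units.val_one]
  have h1 := key 1
  rw [map_one, hN, one_smul, Matrix.mul_add, Matrix.add_mul, Matrix.mul_one, hgg] at h1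
  have hgN := add_left_cancel h1
  ext c
  have h2 := key c
  rw [hN, hN, Matrix.mul_add, Matrix.add_mul, Matrix.mul_one, hgg, Matrix.mul_smul,
    Matrix.smul_mul, hgN] at h2
  have h3 := add_left_cancel h2
  have h4 := congrFun (congrFun h3 (Sum.inl ⟨0, hm⟩)) (Sum.inr ⟨0, hm⟩)
  have hent : vecMulVec e (J (Fin m) F *ᵥ e) (Sum.inl ⟨0, hm⟩) (Sum.inr ⟨0, hm⟩) = 1 := by
    rw [Matrix.vecMulVec_apply, he, Matrix.mulVec_single_one, Pi.single_eq_same, one_mul]
    simp [Matrix.J]
  rw [Matrix.smul_apply, Matrix.smul_apply, hent, smul_eq_mul, smul_eq_mul, mul_one, mul_one] at h4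
  exact h4.symm

end Cfsg.Agent.Lib.H7AutPSp
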