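import Cfsg.Agent.Lib.Helper7.AutPSp.Kernel
import Cfsg.Agent.Lib.Helper7.AutPSL.SplitPSL
import Mathlib

/-!
# The multiplier of the conformal symplectic group and class splitting in `PSp` (helper7)
-/

set_option autoImplicit false

namespace Cfsg.Agent.Lib.H7AutPSp

open Matrix Cfsg Cfsg.Agent.Lib.Helper5.Symp Cfsg.Agent.Lib.H7AutPSL

variable {m : ℕ} {F : Type*} [Field F]

/-! ### symplectic and scalar matrices inside `GSp` -/

/-- symplectic matrices as conformal symplectic matrices -/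
def toGSp : Spm m F →* ↥(Cfsg.GSp m F) where
  toFun s := ⟨⟨s.val, (s⁻¹).val, congrArg Subtype.val (mul_inv_cancel s),
    congrArg Subtype.val (inv_mul_cancel s)⟩,
    (mem_GSp_iff _).2 ⟨1, by
      rw [Units.val_one, one_smul]
      exact SymplecticGroup.mem_iff'.1 s.2⟩⟩
  map_one' := by
    apply Subtype.ext
    apply Units.ext
    rfl
  map_mul' s t := by
    apply Subtype.ext
    apply Units.ext
    rfl

theorem toGSp_val (s : Spm m F) : (toGSp s).1.val = s.val := rfl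

theorem conjSp_toGSp (s : Spm m F) : conjSp (toGSp s) = MulAut.conj s := by
  ext t : 1
  apply Subtype.ext
  rfl

theorem DhSp_toGSp (s : Spm m F) :
    (DhSp (toGSp s) : MulAut (PSpm m F)) = MulAut.conj (prC s) := by
  show liftC (conjSp (toGSp s)) = _
  rw [conjSp_toGSp, liftC_conj]

theorem inn_le_DhSp_range :
    Cfsg.Inn (PSpm m F) ≤ (DhSp : ↥(Cfsg.GSp m F) →* MulAut (PSpm m F)).range := by
  rintro _ ⟨y, rfl⟩
  obtain ⟨s, rfl⟩ := prC_surjective y
  exact ⟨toGSp s, DhSp_toGSp s⟩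

theorem scalar_val' (c : Fˣ) :
    (Matrix.GeneralLinearGroup.scalar (Fin m ⊕ Fin m) c).val =
      (c : F) • (1 : Matrix (Fin m ⊕ Fin m) (Fin m ⊕ Fin m) F) := by
  rw [Matrix.GeneralLinearGroup.coe_scalar, Matrix.scalar_apply, Matrix.smul_one_eq_diagonal]

/-- scalar matrices as conformal symplectic matrices -/
def scalarSp : Fˣ →* ↥(Cfsg.GSp m F) :=
  (Matrix.GeneralLinearGroup.scalar (Fin m ⊕ Fin m)).codRestrict _ (fun c => by
    rw [mem_GSp_iff]
    refine ⟨c * c, ?_⟩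
    rw [scalar_val', Matrix.transpose_smul, Matrix.transpose_one, Matrix.smul_mul, Matrix.one_mul,
      Matrix.mul_smul, Matrix.mul_one, smul_smul, Units.val_mul])

theorem scalarSp_val (c : Fˣ) :
    (scalarSp c : ↥(Cfsg.GSp m F)).1.val =
      (c : F) • (1 : Matrix (Fin m ⊕ Fin m) (Fin m ⊕ Fin m) F) := scalar_val' c

theorem DhSp_scalarSp (hm : 1 ≤ m) (c : Fˣ) :
    (DhSp (scalarSp c) : MulAut (PSpm m F)) = 1 :=
  (DhSp_eq_one_iff hm _).2 ⟨c, scalarSp_val c⟩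

/-! ### the multiplier -/

theorem GSp_spec (g : ↥(Cfsg.GSp m F)) :
    ∃ c : Fˣ, g.1.valᵀ * J (Fin m) F * g.1.val = (c : F) • J (Fin m) F :=
  (mem_GSp_iff g.1).1 g.2

theorem J_entry (hm : 1 ≤ m) : J (Fin m) F (Sum.inr ⟨0, hm⟩) (Sum.inl ⟨0, hm⟩) = 1 := by
  simp [Matrix.J]

theorem smulJ_inj (hm : 1 ≤ m) (c d : F) (h : c • J (Fin m) F = d • J (Fin m) F) : c = d := by
  have := congrFun (congrFun h (Sum.inr ⟨0, hm⟩)) (Sum.inl ⟨0, hm⟩)
  rw [Matrix.smul_apply, Matrix.smul_apply, J_entry hm, smul_eq_mul, smul_eq_mul, mul_one,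
    mul_one] at this
  exact this

theorem mul_spec (g h : ↥(Cfsg.GSp m F)) (c d : F)
    (hg : g.1.valᵀ * J (Fin m) F * g.1.val = c • J (Fin m) F)
    (hh : h.1.valᵀ * J (Fin m) F * h.1.val = d • J (Fin m) F) :
    (g * h).1.valᵀ * J (Fin m) F * (g * h).1.val = (c * d) • J (Fin m) F := by
  show (g.1 * h.1).valᵀ * J (Fin m) F * (g.1 * h.1).val = _
  rw [Units.val_mul, Matrix.transpose_mul]
  calc h.1.valᵀ * g.1.valᵀ * J (Fin m) F * (g.1.val * h.1.val)
      = h.1.valᵀ * (g.1.valᵀ * J (Fin m) F * g.1.val) * h.1.val := by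
        simp only [Matrix.mul_assoc]
    _ = _ := by
        rw [hg, Matrix.mul_smul, Matrix.smul_mul, hh, smul_smul]

/-- the multiplier `GSp → Fˣ` -/
noncomputable def multSp (hm : 1 ≤ m) : ↥(Cfsg.GSp m F) →* Fˣ where
  toFun g := Classical.choose (GSp_spec g)
  map_one' := by
    apply Units.ext
    apply smulJ_inj hm
    rw [← Classical.choose_spec (GSp_spec (1 : ↥(Cfsg.GSp m F))), Units.val_one, one_smul]
    show (1 : GL (Fin m ⊕ Fin m) F).valᵀ * J (Fin m) F * (1 : GL (Fin m ⊕ Fin m) F).val = _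
    rw [Units.val_one, Matrix.transpose_one, Matrix.one_mul, Matrix.mul_one]
  map_mul' g h := by
    apply Units.ext
    apply smulJ_inj hm
    rw [← Classical.choose_spec (GSp_spec (g * h)), Units.val_mul]
    exact mul_spec g h _ _ (Classical.choose_spec (GSp_spec g)) (Classical.choose_spec (GSp_spec h))

theorem multSp_spec (hm : 1 ≤ m) (g : ↥(Cfsg.GSp m F)) :
    g.1.valᵀ * J (Fin m) F * g.1.val = ((multSp hm g : Fˣ) : F) • J (Fin m) F :=
  Classical.choose_spec (GSp_spec g)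

theorem multSp_eq (hm : 1 ≤ m) (g : ↥(Cfsg.GSp m F)) (c : Fˣ)
    (h : g.1.valᵀ * J (Fin m) F * g.1.val = (c : F) • J (Fin m) F) : multSp hm g = c := by
  apply Units.ext
  apply smulJ_inj hm
  rw [← multSp_spec hm g, h]

theorem multSp_toGSp (hm : 1 ≤ m) (s : Spm m F) : multSp hm (toGSp s) = 1 := by
  apply multSp_eq
  rw [Units.val_one, one_smul]
  exact SymplecticGroup.mem_iff'.1 s.2

theorem multSp_scalarSp (hm : 1 ≤ m) (c : Fˣ) :
    multSp hm (scalarSp c : ↥(Cfsg.GSp m F)) = c ^ 2 := by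
  apply multSp_eq
  rw [scalarSp_val, Matrix.transpose_smul, Matrix.transpose_one, Matrix.smul_mul, Matrix.one_mul,
    Matrix.mul_smul, Matrix.mul_one, smul_smul, pow_two, Units.val_mul]

theorem multSp_ker_le (hm : 1 ≤ m) (g : ↥(Cfsg.GSp m F)) (hg : g ∈ (multSp hm).ker) :
    ∃ s : Spm m F, toGSp s = g := by
  have h1 := multSp_spec hm g
  rw [MonoidHom.mem_ker.1 hg, Units.val_one, one_smul] at h1
  refine ⟨⟨g.1.val, SymplecticGroup.mem_iff'.2 h1⟩, ?_⟩
  apply Subtype.ext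
  apply Units.ext
  rfl

/-- the diagonal matrix `diag(c, …, c, 1, …, 1)` -/
def dgSpMat (c : F) : Matrix (Fin m ⊕ Fin m) (Fin m ⊕ Fin m) F :=
  Matrix.fromBlocks (c • (1 : Matrix (Fin m) (Fin m) F)) 0 0 1

theorem dgSpMat_mul (c d : F) : (dgSpMat c : Matrix (Fin m ⊕ Fin m) (Fin m ⊕ Fin m) F) * dgSpMat d =
    dgSpMat (c * d) := by
  unfold dgSpMat
  rw [Matrix.fromBlocks_multiply]
  simp [smul_smul, mul_comm]

theorem dgSpMat_one : (dgSpMat (1 : F) : Matrix (Fin m ⊕ Fin m) (Fin m ⊕ Fin m) F) = 1 := by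
  unfold dgSpMat
  rw [one_smul, Matrix.fromBlocks_one]

theorem dgSpMat_spec (c : F) :
    (dgSpMat c : Matrix (Fin m ⊕ Fin m) (Fin m ⊕ Fin m) F)ᵀ * J (Fin m) F * dgSpMat c =
      c • J (Fin m) F := by
  unfold dgSpMat Matrix.J
  rw [Matrix.fromBlocks_transpose, Matrix.fromBlocks_multiply, Matrix.fromBlocks_multiply,
    Matrix.fromBlocks_smul]
  simp

/-- `diag(c, …, c, 1, …, 1)` as a conformal symplectic matrix -/
def dgSp (c : Fˣ) : ↥(Cfsg.GSp m F) :=
  ⟨⟨dgSpMat (c : F), dgSpMat ((c⁻¹ : Fˣ) : F),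
    by rw [dgSpMat_mul, ← Units.val_mul, mul_inv_cancel, Units.val_one, dgSpMat_one],
    by rw [dgSpMat_mul, ← Units.val_mul, inv_mul_cancel, Units.val_one, dgSpMat_one]⟩,
    (mem_GSp_iff _).2 ⟨c, dgSpMat_spec (c : F)⟩⟩

theorem dgSp_val (c : Fˣ) : (dgSp c : ↥(Cfsg.GSp m F)).1.val = dgSpMat (c : F) := rfl

theorem multSp_dgSp (hm : 1 ≤ m) (c : Fˣ) : multSp hm (dgSp c : ↥(Cfsg.GSp m F)) = c :=
  multSp_eq hm _ c (dgSpMat_spec (c : F))

theorem multSp_surjective (hm : 1 ≤ m) :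
    Function.Surjective (multSp hm : ↥(Cfsg.GSp m F) →* Fˣ) :=
  fun c => ⟨dgSp c, multSp_dgSp hm c⟩

/-! ### class splitting -/

/-- the conformal symplectic matrices whose inner-diagonal automorphism centralises `X` -/
noncomputable def centGSp (X : MulAut (PSpm m F)) : Subgroup ↥(Cfsg.GSp m F) :=
  (Subgroup.centralizer {X}).comap DhSp

theorem mem_centGSp (X : MulAut (PSpm m F)) (g : ↥(Cfsg.GSp m F)) :
    g ∈ centGSp X ↔ DhSp g * X = X * DhSp g := by
  unfold centGSp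
  rw [Subgroup.mem_comap, mem_centralizer_singleton]

/-- **The class splitting for `PSp_{2m}(F)`.** -/
theorem splitClassCount_psp (hm : 1 ≤ m) (X : MulAut (PSpm m F)) :
    Cfsg.splitClassCount (DhSp : ↥(Cfsg.GSp m F) →* MulAut (PSpm m F)).range
        (Cfsg.Inn (PSpm m F)) X = ((centGSp X).map (multSp hm)).index := by
  rw [splitClassCount_eq _ _ inn_le_DhSp_range]
  have h1 : ((splitSub (DhSp : ↥(Cfsg.GSp m F) →* MulAut (PSpm m F)).range
      (Cfsg.Inn (PSpm m F)) X).comap DhSp).index =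
      (splitSub (DhSp : ↥(Cfsg.GSp m F) →* MulAut (PSpm m F)).range
        (Cfsg.Inn (PSpm m F)) X).relIndex (DhSp : ↥(Cfsg.GSp m F) →* MulAut (PSpm m F)).range :=
    Subgroup.index_comap _ DhSp
  rw [← h1]
  have hker : (multSp hm : ↥(Cfsg.GSp m F) →* Fˣ).ker ≤
      (splitSub (DhSp : ↥(Cfsg.GSp m F) →* MulAut (PSpm m F)).range
        (Cfsg.Inn (PSpm m F)) X).comap DhSp := by
    intro g hg
    obtain ⟨s, rfl⟩ := multSp_ker_le hm g hg
    rw [Subgroup.mem_comap, DhSp_toGSp]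
    exact Subgroup.mem_sup_left ⟨prC s, rfl⟩
  rw [← Subgroup.index_map_eq _ (multSp_surjective hm) hker]
  congr 1
  apply le_antisymm
  · rintro _ ⟨g, hg, rfl⟩
    rw [SetLike.mem_coe, Subgroup.mem_comap, mem_splitSub_iff] at hg
    obtain ⟨k, ⟨y, rfl⟩, c, hc, e⟩ := hg
    obtain ⟨s, rfl⟩ := prC_surjective y
    have e2 : c = DhSp ((toGSp s)⁻¹ * g) := by
      rw [map_mul, map_inv, e, DhSp_toGSp]
      show c = (MulAut.conj (prC s))⁻¹ * (MulAut.conj (prC s) * c)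
      rw [inv_mul_cancel_left]
    refine ⟨(toGSp s)⁻¹ * g, ?_, ?_⟩
    · rw [SetLike.mem_coe, centGSp, Subgroup.mem_comap, ← e2]
      exact (Subgroup.mem_inf.1 hc).2
    · rw [map_mul, map_inv, multSp_toGSp, inv_one, one_mul]
  · apply Subgroup.map_mono
    intro g hg
    rw [Subgroup.mem_comap]
    exact Subgroup.mem_sup_right (Subgroup.mem_inf.2 ⟨⟨g, rfl⟩, hg⟩)

end Cfsg.Agent.Lib.H7AutPSp
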