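import Cfsg.Agent.Lib.Helper7.AutPSp.Hilbert90Gen
import Cfsg.Agent.Lib.Helper7.AutPSL.FixedField
import Cfsg.Agent.H9.SympEmbed
import Mathlib

/-!
# Hilbert's Theorem 90 for the conformal symplectic group (helper7)

A conformal symplectic matrix of norm one with respect to a field automorphism `σ` of a finite field is
`P σ(P)⁻¹` with `P` conformal symplectic.
-/

set_option autoImplicit false

namespace Cfsg.Agent.Lib.H7AutPSp

open Matrix Cfsg.Agent.Lib.H7AutPSL

set_option linter.unusedSectionVars false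

variable {κ : Type*} [Fintype κ] [DecidableEq κ] {F : Type*} [Field F]

/-- a skew-symmetric matrix with zero diagonal gives an alternating form (any characteristic) -/
theorem alt_dotProduct (K : Matrix κ κ F) (hK : Kᵀ = -K) (hdiag : ∀ i, K i i = 0) (v : κ → F) :
    v ⬝ᵥ (K *ᵥ v) = 0 := by
  have h1 : v ⬝ᵥ (K *ᵥ v) = ∑ p : κ × κ, v p.1 * K p.1 p.2 * v p.2 := by
    rw [Fintype.sum_prod_type]
    unfold dotProduct Matrix.mulVec dotProduct
    apply Finset.sum_congr rfl
    intro i _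
    rw [Finset.mul_sum]
    apply Finset.sum_congr rfl
    intro j _
    ring
  rw [h1]
  have hskew : ∀ i j, K j i = -K i j := by
    intro i j
    have := congrFun (congrFun hK i) j
    rw [Matrix.transpose_apply, Matrix.neg_apply] at this
    exact this
  apply Finset.sum_involution (fun p _ => (p.2, p.1))
  · intro p _
    show v p.1 * K p.1 p.2 * v p.2 + v p.2 * K p.2 p.1 * v p.1 = 0
    rw [hskew p.1 p.2]
    ring
  · intro p _ hp hpp
    apply hp
    have : p.2 = p.1 := congrArg Prod.fst hpp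
    rw [this, hdiag, mul_zero, zero_mul]
  · intro p _
    exact Finset.mem_univ _
  · intro p _
    rfl

theorem J_skew (m : ℕ) : (Matrix.J (Fin m) F)ᵀ = -Matrix.J (Fin m) F := Matrix.J_transpose _ _

theorem J_diag (m : ℕ) (i : Fin m ⊕ Fin m) : Matrix.J (Fin m) F i i = 0 := by
  rcases i with i | i
  · simp [Matrix.J]
  · simp [Matrix.J]

theorem J_map {F' : Type*} [Field F'] (m : ℕ) (f : F →+* F') :
    (Matrix.J (Fin m) F).map f = Matrix.J (Fin m) F' := by
  ext i j
  rcases i with i | i <;> rcases j with j | j <;>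
    simp [Matrix.J, Matrix.one_apply, apply_ite f]

/-- `Pᵀ K P` evaluated through dot products -/
theorem congr_apply (K P : Matrix κ κ F) (i j : κ) :
    (Pᵀ * K * P) i j = (fun l => P l i) ⬝ᵥ (K *ᵥ (fun l => P l j)) := by
  rw [Matrix.mul_assoc, Matrix.mul_apply]
  unfold dotProduct
  apply Finset.sum_congr rfl
  intro l _
  rw [Matrix.transpose_apply]
  congr 1

/-- **classification of alternating forms over a finite field**, matrix version -/
theorem alt_congr_J [Finite F] (m : ℕ) (K : Matrix (Fin m ⊕ Fin m) (Fin m ⊕ Fin m) F)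
    (hK : Kᵀ = -K) (hdiag : ∀ i, K i i = 0) (hdet : K.det ≠ 0) :
    ∃ Q : Matrix (Fin m ⊕ Fin m) (Fin m ⊕ Fin m) F, IsUnit Q ∧ Qᵀ * K * Q = Matrix.J (Fin m) F := by
  have hB : (Matrix.toBilin' K).Nondegenerate :=
    Matrix.nondegenerate_toBilin'_iff.2 (Matrix.nondegenerate_of_det_ne_zero hdet)
  have hA : (Matrix.toBilin' K).IsAlt := by
    intro v
    rw [Matrix.toBilin'_apply']
    exact alt_dotProduct K hK hdiag v
  have hdim : Module.finrank F (Fin m ⊕ Fin m → F) = 2 * m := by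
    rw [Module.finrank_fintype_fun_eq_card, Fintype.card_sum, Fintype.card_fin, two_mul]
  obtain ⟨b, hb⟩ := Cfsg.Agent.H9.SympEmbed.exists_symplectic_basis (Matrix.toBilin' K) hB hA m hdim
  refine ⟨Matrix.of (fun l i => b i l), ?_, ?_⟩
  · rw [← Matrix.linearIndependent_cols_iff_isUnit]
    exact b.linearIndependent
  · ext i j
    rw [congr_apply, ← hb i j, Matrix.toBilin'_apply']
    rfl

theorem map_mulG (σ : RingAut F) (A B : Matrix κ κ F) : (A * B).map σ = A.map σ * B.map σ := by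
  ext i j
  simp only [Matrix.map_apply, Matrix.mul_apply, map_sum, map_mul]

theorem map_smulG (σ : RingAut F) (c : F) (A : Matrix κ κ F) : (c • A).map σ = σ c • A.map σ := by
  ext i j
  simp only [Matrix.map_apply, Matrix.smul_apply, smul_eq_mul, map_mul]

theorem map_pow_of_semifixedG (σ : RingAut F) (M : Matrix κ κ F) (d : F)
    (h : M.map σ = d • M) (k : ℕ) : M.map (σ ^ k : RingAut F) = fnorm σ d k • M := by
  induction k with
  | zero =>
    rw [fnorm_zero, one_smul, pow_zero]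
    ext i j
    rfl
  | succ k ih =>
    have e : M.map (σ ^ (k + 1) : RingAut F) = (M.map (σ ^ k : RingAut F)).map σ := by
      ext i j
      rw [pow_succ']
      rfl
    rw [e, ih, fnorm_succ', map_smulG, h, smul_smul, mul_comm]

/-- **Hilbert 90 for the conformal symplectic group** -/
theorem sp_hilbert90 [Finite F] (m : ℕ) (hm : 1 ≤ m) (σ : RingAut F) (r : ℕ) (hr : 0 < r)
    (hσ : σ ^ r = 1) (hinj : ∀ i j, i < r → j < r → σ ^ i = σ ^ j → i = j)
    (g : Matrix (Fin m ⊕ Fin m) (Fin m ⊕ Fin m) F) (c : F) (hc : c ≠ 0)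
    (hg : gᵀ * Matrix.J (Fin m) F * g = c • Matrix.J (Fin m) F) (hN : pnormG σ g r = 1) :
    ∃ P : Matrix (Fin m ⊕ Fin m) (Fin m ⊕ Fin m) F, IsUnit P ∧ g * P.map σ = P ∧
      ∃ ν : F, ν ≠ 0 ∧ Pᵀ * Matrix.J (Fin m) F * P = ν • Matrix.J (Fin m) F := by
  classical
  obtain ⟨P₀, hP₀u, hP₀⟩ := hilbert90_matrixG σ r hr hσ hinj g hN
  obtain ⟨K, hKdef⟩ : ∃ K, K = P₀ᵀ * Matrix.J (Fin m) F * P₀ := ⟨_, rfl⟩
  have hJσ : (Matrix.J (Fin m) F).map σ = Matrix.J (Fin m) F := J_map m (σ : F →+* F)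
  have hKσ : K = c • K.map σ := by
    have e1 : K.map σ = (P₀.map σ)ᵀ * Matrix.J (Fin m) F * P₀.map σ := by
      rw [hKdef, map_mulG, map_mulG, Matrix.transpose_map, hJσ]
    rw [e1]
    conv_lhs => rw [hKdef, ← hP₀]
    rw [Matrix.transpose_mul]
    calc (P₀.map σ)ᵀ * gᵀ * Matrix.J (Fin m) F * (g * P₀.map σ)
        = (P₀.map σ)ᵀ * (gᵀ * Matrix.J (Fin m) F * g) * P₀.map σ := by
          simp only [Matrix.mul_assoc]
      _ = c • ((P₀.map σ)ᵀ * Matrix.J (Fin m) F * P₀.map σ) := by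
          rw [hg, Matrix.mul_smul, Matrix.smul_mul]
  have hKσ' : K.map σ = c⁻¹ • K := by
    conv_rhs => rw [hKσ]
    rw [smul_smul, inv_mul_cancel₀ hc, one_smul]
  have hKdet : IsUnit K.det := by
    rw [hKdef, Matrix.det_mul, Matrix.det_mul, Matrix.det_transpose]
    have h1 := (Matrix.isUnit_iff_isUnit_det _).1 hP₀u
    exact (h1.mul (Matrix.isUnit_det_J _ _)).mul h1
  -- the multiplier has norm one
  have hnorm : fnorm σ c⁻¹ r = 1 := by
    have e := map_pow_of_semifixedG σ K c⁻¹ hKσ' r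
    rw [hσ] at e
    have e1 : K.map (1 : RingAut F) = K := by
      ext i j
      rfl
    rw [e1] at e
    have e2 : K * K⁻¹ = (fnorm σ c⁻¹ r • K) * K⁻¹ := by rw [← e]
    rw [Matrix.smul_mul, Matrix.mul_nonsing_inv K hKdet] at e2
    have e3 := congrFun (congrFun e2 (Sum.inl ⟨0, hm⟩)) (Sum.inl ⟨0, hm⟩)
    rw [Matrix.smul_apply, Matrix.one_apply_eq, smul_eq_mul, mul_one] at e3
    exact e3.symm
  obtain ⟨b, hb0, hb⟩ := hilbert90_field σ r hr hσ hinj c⁻¹ hnorm
  -- `K' = b K` is fixed by `σ`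
  obtain ⟨K', hK'def⟩ : ∃ K', K' = b • K := ⟨_, rfl⟩
  have hK'σ : K'.map σ = K' := by
    rw [hK'def, map_smulG, hKσ', smul_smul, mul_comm, hb]
  have hK'skew : K'ᵀ = -K' := by
    rw [hK'def, hKdef, Matrix.transpose_smul, Matrix.transpose_mul, Matrix.transpose_mul,
      Matrix.transpose_transpose, Matrix.J_transpose, Matrix.neg_mul, Matrix.mul_neg, smul_neg,
      Matrix.mul_assoc]
  have hK'diag : ∀ i, K' i i = 0 := by
    intro i
    rw [hK'def, hKdef, Matrix.smul_apply, congr_apply,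
      alt_dotProduct _ (J_skew m) (J_diag m), smul_zero]
  have hK'det : K'.det ≠ 0 := by
    rw [hK'def, Matrix.det_smul]
    exact mul_ne_zero (pow_ne_zero _ hb0) hKdet.ne_zero
  -- descend to the fixed field
  have hfixK : ∀ i j, K' i j ∈ FixedPoints.subfield (Subgroup.zpowers σ) F := by
    intro i j
    rw [mem_fixed_iff]
    have := congrFun (congrFun hK'σ i) j
    rw [Matrix.map_apply] at this
    exact this
  let K₀ : Matrix (Fin m ⊕ Fin m) (Fin m ⊕ Fin m) (FixedPoints.subfield (Subgroup.zpowers σ) F) :=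
    fun i j => ⟨K' i j, hfixK i j⟩
  have hK₀map : K₀.map (FixedPoints.subfield (Subgroup.zpowers σ) F).subtype = K' := by
    ext i j
    rfl
  have hK₀skew : K₀ᵀ = -K₀ := by
    ext i j
    have := congrFun (congrFun hK'skew i) j
    exact this
  have hK₀diag : ∀ i, K₀ i i = 0 := by
    intro i
    apply Subtype.ext
    exact hK'diag i
  have hK₀det : K₀.det ≠ 0 := by
    intro h0
    apply hK'det
    rw [← hK₀map, ← RingHom.mapMatrix_apply, ← RingHom.map_det, h0, map_zero]
  obtain ⟨Q₀, hQ₀u, hQ₀⟩ := alt_congr_J m K₀ hK₀skew hK₀diag hK₀det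
  obtain ⟨Q, hQdef⟩ : ∃ Q, Q = Q₀.map (FixedPoints.subfield (Subgroup.zpowers σ) F).subtype :=
    ⟨_, rfl⟩
  have hQ : Qᵀ * K' * Q = Matrix.J (Fin m) F := by
    have := congrArg (fun M => M.map (FixedPoints.subfield (Subgroup.zpowers σ) F).subtype) hQ₀
    simp only [Matrix.map_mul, Matrix.transpose_map, hK₀map, J_map] at this
    rw [hQdef, ← Matrix.transpose_map]
    exact this
  have hQσ : Q.map σ = Q := by
    ext i j
    rw [hQdef, Matrix.map_apply, Matrix.map_apply]
    exact (mem_fixed_iff σ _).1 (Q₀ i j).2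
  have hQu : IsUnit Q := by
    rw [hQdef, ← RingHom.mapMatrix_apply]
    exact hQ₀u.map _
  refine ⟨P₀ * Q, hP₀u.mul hQu, ?_, b⁻¹, inv_ne_zero hb0, ?_⟩
  · rw [map_mulG, hQσ, ← Matrix.mul_assoc, hP₀]
  · have hKK' : K = b⁻¹ • K' := by
      rw [hK'def, smul_smul, inv_mul_cancel₀ hb0, one_smul]
    calc (P₀ * Q)ᵀ * Matrix.J (Fin m) F * (P₀ * Q)
        = Qᵀ * (P₀ᵀ * Matrix.J (Fin m) F * P₀) * Q := by
          rw [Matrix.transpose_mul]; simp only [Matrix.mul_assoc]
      _ = b⁻¹ • (Qᵀ * K' * Q) := by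
          rw [← hKdef, hKK', Matrix.mul_smul, Matrix.smul_mul]
      _ = _ := by rw [hQ]

end Cfsg.Agent.Lib.H7AutPSp
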