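import Cfsg.Agent.Lib.Helper7.AutPSp.Mult
import Cfsg.Agent.Lib.Helper7.AutPSp.SpHilbert90
import Cfsg.Agent.Lib.Helper7.AutPSp.FieldInj
import Cfsg.Agent.Lib.Helper7.AutPSp.Normal
import Cfsg.Agent.Lib.Helper7.AutPSL.CosetConj
import Mathlib

/-!
# Elements of prime order in a field coset of `Inndiag(PSp_{2m}(F))` (helper7)
-/

set_option autoImplicit false

namespace Cfsg.Agent.Lib.H7AutPSp

open Matrix Cfsg Cfsg.Agent.Lib.Helper5.Symp Cfsg.Agent.Lib.H7AutPSL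

variable {m : ℕ} {F : Type*} [Field F]

theorem pnormG_succ' {κ : Type*} [Fintype κ] [DecidableEq κ] (σ : RingAut F) (M : Matrix κ κ F)
    (k : ℕ) : pnormG σ M (k + 1) = pnormG σ M k * M.map (σ ^ k : RingAut F) := by
  induction k with
  | zero =>
    show M * (1 : Matrix κ κ F).map σ = 1 * M.map (σ ^ 0 : RingAut F)
    have h1 : (1 : Matrix κ κ F).map σ = 1 := by
      ext i j
      rw [Matrix.map_apply, Matrix.one_apply]
      split_ifs
      · exact map_one σ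
      · exact map_zero σ
    rw [h1, Matrix.mul_one, Matrix.one_mul, pow_zero]
    ext i j
    rfl
  | succ k ih =>
    show M * (pnormG σ M (k + 1)).map σ = M * (pnormG σ M k).map σ * M.map (σ ^ (k + 1) : RingAut F)
    rw [ih, map_mulG, Matrix.mul_assoc]
    congr 2
    ext i j
    rw [pow_succ']
    rfl

/-- the partial norms in `GSp` -/
noncomputable def gnormSp (σ : RingAut F) (g : ↥(Cfsg.GSp m F)) : ℕ → ↥(Cfsg.GSp m F)
  | 0 => 1
  | k + 1 => g * gmapSp σ (gnormSp σ g k)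

theorem gnormSp_val (σ : RingAut F) (g : ↥(Cfsg.GSp m F)) (k : ℕ) :
    (gnormSp σ g k).1.val = pnormG σ g.1.val k := by
  induction k with
  | zero => rfl
  | succ k ih =>
    show (g.1 * (gmapSp σ (gnormSp σ g k)).1).val = g.1.val * (pnormG σ g.1.val k).map σ
    rw [Units.val_mul, gmapSp_val, ih]

/-- powers of an element of a field coset -/
theorem coset_pow_sp (σ : RingAut F) (g : ↥(Cfsg.GSp m F)) (k : ℕ) :
    (DhSp g * PhSp σ : MulAut (PSpm m F)) ^ k = DhSp (gnormSp σ g k) * PhSp (σ ^ k) := by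
  induction k with
  | zero =>
    show _ = DhSp (1 : ↥(Cfsg.GSp m F)) * PhSp (σ ^ 0)
    rw [pow_zero, pow_zero, map_one, map_one, mul_one]
  | succ k ih =>
    show _ = DhSp (g * gmapSp σ (gnormSp σ g k)) * PhSp (σ ^ (k + 1))
    rw [pow_succ', ih, map_mul, pow_succ', map_mul]
    calc DhSp g * PhSp σ * (DhSp (gnormSp σ g k) * PhSp (σ ^ k))
        = DhSp g * (PhSp σ * DhSp (gnormSp σ g k)) * PhSp (σ ^ k) := by simp only [mul_assoc]
      _ = _ := by rw [PhSp_DhSp]; simp only [mul_assoc]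

section finite

variable [Finite F]

/-- **Elements of order `r` in the coset of a field automorphism of prime order `r`.** -/
theorem field_coset_conj_sp (hm : 1 ≤ m) (σ : RingAut F) (r : ℕ) (hr : r.Prime)
    (hσ : orderOf σ = r) (g : ↥(Cfsg.GSp m F))
    (hy : (DhSp g * PhSp σ : MulAut (PSpm m F)) ^ r = 1) :
    ∃ h : ↥(Cfsg.GSp m F), (DhSp g * PhSp σ : MulAut (PSpm m F)) =
      DhSp h * PhSp σ * (DhSp h)⁻¹ := by
  have hσr : σ ^ r = 1 := by rw [← hσ]; exact pow_orderOf_eq_one σ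
  have hinj : ∀ i j, i < r → j < r → σ ^ i = σ ^ j → i = j := by
    intro i j hi hj hij
    rw [← hσ] at hi hj
    exact pow_injOn_Iio_orderOf (Set.mem_Iio.2 hi) (Set.mem_Iio.2 hj) hij
  -- the norm of `g` is a scalar
  rw [coset_pow_sp, hσr, map_one, mul_one, DhSp_eq_one_iff hm] at hy
  obtain ⟨c, hc⟩ := hy
  rw [gnormSp_val] at hc
  obtain ⟨M, hM⟩ : ∃ M, M = g.1.val := ⟨_, rfl⟩
  rw [← hM] at hc
  have hMM : M * g.1⁻¹.val = 1 := by
    rw [hM, ← Units.val_mul, mul_inv_cancel, Units.val_one]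
  -- the scalar is fixed by `σ`
  have hfix : σ (c : F) = c := by
    have e1 : pnormG σ M (r + 1) = M * (pnormG σ M r).map σ := rfl
    have e2 := pnormG_succ' σ M r
    rw [hσr, e1, hc, map_smulG] at e2
    have h1 : (1 : Matrix (Fin m ⊕ Fin m) (Fin m ⊕ Fin m) F).map σ = 1 := by
      ext i j
      rw [Matrix.map_apply, Matrix.one_apply]
      split_ifs
      · exact map_one σ
      · exact map_zero σ
    have h2 : M.map (1 : RingAut F) = M := by
      ext i j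
      rfl
    rw [h1, h2, Matrix.mul_smul, Matrix.mul_one, Matrix.smul_mul, Matrix.one_mul] at e2
    have e3 : (σ (c : F) • M) * g.1⁻¹.val = ((c : F) • M) * g.1⁻¹.val := by rw [e2]
    rw [Matrix.smul_mul, Matrix.smul_mul, hMM] at e3
    have e4 := congrFun (congrFun e3 (Sum.inl ⟨0, hm⟩)) (Sum.inl ⟨0, hm⟩)
    rw [Matrix.smul_apply, Matrix.smul_apply, Matrix.one_apply_eq, smul_eq_mul, smul_eq_mul,
      mul_one, mul_one] at e4
    exact e4
  obtain ⟨μ, hμ0, hμ⟩ := norm_surj σ r hr.pos hσr hinj c c.ne_zero hfix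
  -- normalise `g`
  have hN : pnormG σ (μ⁻¹ • M) r = 1 := by
    rw [pnormG_smul, hc, fnorm_inv, hμ, smul_smul, inv_mul_cancel₀ c.ne_zero, one_smul]
  obtain ⟨cg, hcg⟩ := GSp_spec g
  rw [← hM] at hcg
  have hg' : (μ⁻¹ • M)ᵀ * J (Fin m) F * (μ⁻¹ • M) = (μ⁻¹ * μ⁻¹ * (cg : F)) • J (Fin m) F := by
    rw [Matrix.transpose_smul, Matrix.smul_mul, Matrix.smul_mul, Matrix.mul_smul, hcg, smul_smul,
      smul_smul]
  obtain ⟨P, hPu, hP, ν, hν0, hPJ⟩ := sp_hilbert90 m hm σ r hr.pos hσr hinj (μ⁻¹ • M)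
    (μ⁻¹ * μ⁻¹ * (cg : F)) (mul_ne_zero (mul_ne_zero (inv_ne_zero hμ0) (inv_ne_zero hμ0)) cg.ne_zero)
    hg' hN
  obtain ⟨h, hh⟩ : ∃ h : ↥(Cfsg.GSp m F), h.1.val = P :=
    ⟨⟨hPu.unit, (mem_GSp_iff _).2 ⟨Units.mk0 ν hν0, by
      rw [IsUnit.unit_spec, Units.val_mk0]; exact hPJ⟩⟩, IsUnit.unit_spec hPu⟩
  refine ⟨h, ?_⟩
  -- `g σ(h) = μ h`
  have e1 : g * gmapSp σ h = scalarSp (Units.mk0 μ hμ0) * h := by
    apply Subtype.ext
    apply Units.ext
    show (g.1 * (gmapSp σ h).1).val = ((scalarSp (Units.mk0 μ hμ0) : ↥(Cfsg.GSp m F)).1 * h.1).val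
    rw [Units.val_mul, Units.val_mul, gmapSp_val, scalarSp_val, hh, Units.val_mk0, ← hM,
      Matrix.smul_mul, Matrix.one_mul]
    rw [Matrix.smul_mul] at hP
    conv_rhs => rw [← hP]
    rw [smul_smul, mul_inv_cancel₀ hμ0, one_smul]
  have e2 : DhSp g * DhSp (gmapSp σ h) = (DhSp h : MulAut (PSpm m F)) := by
    rw [← map_mul, e1, map_mul, DhSp_scalarSp hm, one_mul]
  have e3 := PhSp_DhSp σ h
  have e4 : DhSp g = (DhSp h : MulAut (PSpm m F)) * (DhSp (gmapSp σ h))⁻¹ := by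
    rw [← e2, mul_inv_cancel_right]
  have e5 : PhSp σ * (DhSp h : MulAut (PSpm m F))⁻¹ = (DhSp (gmapSp σ h))⁻¹ * PhSp σ := by
    rw [eq_inv_mul_iff_mul_eq, ← mul_assoc, ← e3, mul_inv_cancel_right]
  rw [e4, mul_assoc, ← e5, ← mul_assoc]

/-- the field case of the coset statement -/
theorem field_class_coset_sp (hm : 1 ≤ m)
    [hD : ((DhSp : ↥(Cfsg.GSp m F) →* MulAut (PSpm m F)).range).Normal]
    (x δ α : MulAut (PSpm m F)) (σ : RingAut F) (hσ1 : σ ≠ 1) (hα : α * x * α⁻¹ = PhSp σ)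
    {r : ℕ} (hr : r.Prime) (hxr : orderOf x = r)
    (hδ : δ ∈ (DhSp : ↥(Cfsg.GSp m F) →* MulAut (PSpm m F)).range)
    (hy : orderOf (δ * x) = r) :
    ∃ h' : MulAut (PSpm m F), h' ∈ (DhSp : ↥(Cfsg.GSp m F) →* MulAut (PSpm m F)).range ∧
      δ * x = h' * x * h'⁻¹ := by
  have := Fact.mk hr
  have hPr : (PhSp σ : MulAut (PSpm m F)) ^ r = 1 := by
    rw [← hα, ← MulAut.conj_apply, ← map_pow, ← hxr, pow_orderOf_eq_one, map_one]
  have hσr : σ ^ r = 1 := by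
    apply PhSp_inj hm
    rw [map_pow, hPr]
    exact one_mem _
  have hσord : orderOf σ = r := orderOf_eq_prime hσr hσ1
  obtain ⟨g, hg⟩ : ∃ g : ↥(Cfsg.GSp m F), DhSp g = α * δ * α⁻¹ := hD.conj_mem δ hδ α
  have hpow : (DhSp g * PhSp σ : MulAut (PSpm m F)) ^ r = 1 := by
    have : DhSp g * PhSp σ = MulAut.conj α (δ * x) := by
      rw [MulAut.conj_apply, hg, ← hα]; group
    rw [this, ← map_pow, ← hy, pow_orderOf_eq_one, map_one]
  obtain ⟨h, hh⟩ := field_coset_conj_sp hm σ r hr hσord g hpow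
  exact conj_transport _ α x δ (PhSp σ) (DhSp g) (DhSp h) hα hg.symm ⟨h, rfl⟩ hh

end finite

end Cfsg.Agent.Lib.H7AutPSp
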