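import Cfsg.Agent.Lib.Helper7.AutPSp.CosetFieldSp
import Mathlib

/-!
# The centraliser of a field automorphism in `Inndiag(PSp_{2m}(F))` (helper7)
-/

set_option autoImplicit false

namespace Cfsg.Agent.Lib.H7AutPSp

open Matrix Cfsg Cfsg.Agent.Lib.Helper5.Symp Cfsg.Agent.Lib.H7AutPSL

variable {m : ℕ} {F : Type*} [Field F]

theorem DhSp_eq_iff (hm : 1 ≤ m) (g h : ↥(Cfsg.GSp m F)) :
    (DhSp g : MulAut (PSpm m F)) = DhSp h ↔ ∃ d : Fˣ, h = scalarSp d * g := by
  constructor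
  · intro e
    have h1 : (DhSp (h * g⁻¹) : MulAut (PSpm m F)) = 1 := by
      rw [map_mul, map_inv, e, mul_inv_cancel]
    obtain ⟨d, hd⟩ := (DhSp_eq_one_iff hm _).1 h1
    refine ⟨d, ?_⟩
    have h2 : h * g⁻¹ = scalarSp d := by
      apply Subtype.ext
      apply Units.ext
      rw [hd, scalarSp_val]
    rw [← h2, inv_mul_cancel_right]
  · rintro ⟨d, rfl⟩
    rw [map_mul, DhSp_scalarSp hm, one_mul]

/-- the matrices centralising a field automorphism -/
theorem mem_centGSp_field (hm : 1 ≤ m) (σ : RingAut F) (g : ↥(Cfsg.GSp m F)) :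
    g ∈ centGSp (PhSp σ : MulAut (PSpm m F)) ↔ ∃ d : Fˣ, gmapSp σ g = scalarSp d * g := by
  rw [mem_centGSp, PhSp_DhSp, mul_left_inj, DhSp_eq_iff hm]

theorem scalarSp_mul_val (b : Fˣ) (g : ↥(Cfsg.GSp m F)) :
    (scalarSp b * g).1.val = (b : F) • g.1.val := by
  show ((scalarSp b : ↥(Cfsg.GSp m F)).1 * g.1).val = _
  rw [Units.val_mul, scalarSp_val, Matrix.smul_mul, Matrix.one_mul]

theorem gsp_ext {g h : ↥(Cfsg.GSp m F)} (e : g.1.val = h.1.val) : g = h :=
  Subtype.ext (Units.ext e)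

/-- a matrix centralising a field automorphism is, up to a scalar, fixed by it -/
theorem exists_fixed_rep_sp (hm : 1 ≤ m) (σ : RingAut F) (r : ℕ) (hr : 0 < r) (hσ : σ ^ r = 1)
    (hinj : ∀ i j, i < r → j < r → σ ^ i = σ ^ j → i = j) (g : ↥(Cfsg.GSp m F))
    (hg : g ∈ centGSp (PhSp σ : MulAut (PSpm m F))) :
    ∃ b : Fˣ, gmapSp σ (scalarSp b * g) = scalarSp b * g := by
  obtain ⟨d, hd⟩ := (mem_centGSp_field hm σ g).1 hg
  have h' : g.1.val.map σ = (d : F) • g.1.val := by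
    have := congrArg (fun x : ↥(Cfsg.GSp m F) => x.1.val) hd
    simp only [gmapSp_val, scalarSp_mul_val] at this
    exact this
  -- the multiplier `d` has norm one
  have hN : fnorm σ (d : F) r = 1 := by
    have e := map_pow_of_semifixedG σ g.1.val d h' r
    rw [hσ] at e
    have e1 : g.1.val.map (1 : RingAut F) = g.1.val := by
      ext i j
      rfl
    rw [e1] at e
    have e2 : g.1.val * g.1⁻¹.val = (fnorm σ (d : F) r • g.1.val) * g.1⁻¹.val := by rw [← e]
    rw [Matrix.smul_mul, ← Units.val_mul, mul_inv_cancel, Units.val_one] at e2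
    have e3 := congrFun (congrFun e2 (Sum.inl ⟨0, hm⟩)) (Sum.inl ⟨0, hm⟩)
    rw [Matrix.smul_apply, Matrix.one_apply_eq, smul_eq_mul, mul_one] at e3
    exact e3.symm
  obtain ⟨b, hb0, hb⟩ := hilbert90_field σ r hr hσ hinj d hN
  refine ⟨Units.mk0 b hb0, gsp_ext ?_⟩
  rw [gmapSp_val, scalarSp_mul_val, Units.val_mk0, map_smulG, h', smul_smul, mul_comm, hb]

theorem multSp_gmapSp (hm : 1 ≤ m) (σ : RingAut F) (g : ↥(Cfsg.GSp m F)) :
    ((multSp hm (gmapSp σ g) : Fˣ) : F) = σ ((multSp hm g : Fˣ) : F) := by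
  have h1 := multSp_spec hm g
  have h2 := congrArg (fun M => M.map (σ : F →+* F)) h1
  simp only [Matrix.map_mul, Matrix.transpose_map, J_map'] at h2
  have e : ((((multSp hm g : Fˣ) : F) • J (Fin m) F).map (σ : F →+* F)) =
      σ ((multSp hm g : Fˣ) : F) • J (Fin m) F := by
    ext i j
    rw [Matrix.map_apply, Matrix.smul_apply, Matrix.smul_apply, smul_eq_mul, smul_eq_mul,
      map_mul]
    congr 1
    exact congrFun (congrFun (J_map' (m := m) (σ : F →+* F)) i) j
  rw [e] at h2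
  have h3 : (gmapSp σ g).1.valᵀ * J (Fin m) F * (gmapSp σ g).1.val =
      σ ((multSp hm g : Fˣ) : F) • J (Fin m) F := by
    rw [gmapSp_val, ← Matrix.transpose_map]
    exact h2
  have h4 := multSp_spec hm (gmapSp σ g)
  rw [h3] at h4
  exact (smulJ_inj hm _ _ h4).symm

theorem gmapSp_scalarSp (σ : RingAut F) (μ : Fˣ) :
    gmapSp σ (scalarSp μ : ↥(Cfsg.GSp m F)) = scalarSp (Units.map (σ : F →* F) μ) := by
  apply gsp_ext
  rw [gmapSp_val, scalarSp_val, scalarSp_val, map_smulG]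
  congr 1
  ext i j
  rw [Matrix.map_apply, Matrix.one_apply]
  split_ifs
  · exact map_one σ
  · exact map_zero σ

theorem gmapSp_dgSp (σ : RingAut F) (u : Fˣ) (hu : σ (u : F) = u) :
    gmapSp σ (dgSp u : ↥(Cfsg.GSp m F)) = dgSp u := by
  apply gsp_ext
  rw [gmapSp_val, dgSp_val]
  ext i j
  rw [Matrix.map_apply]
  unfold dgSpMat
  rcases i with i | i <;> rcases j with j | j
  · simp only [Matrix.fromBlocks_apply₁₁, Matrix.smul_apply, Matrix.one_apply, smul_eq_mul,
      map_mul, hu]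
    split_ifs
    · rw [map_one]
    · rw [map_zero]
  · simp
  · simp
  · simp only [Matrix.fromBlocks_apply₂₂, Matrix.one_apply]
    split_ifs
    · exact map_one σ
    · exact map_zero σ

/-- **the multipliers of the matrices centralising a field automorphism** -/
theorem mult_centGSp_field (hm : 1 ≤ m) (σ : RingAut F) (r : ℕ) (hr : 0 < r) (hσ : σ ^ r = 1)
    (hinj : ∀ i j, i < r → j < r → σ ^ i = σ ^ j → i = j) :
    (centGSp (PhSp σ : MulAut (PSpm m F))).map (multSp hm) =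
      (powMonoidHom 2 : Fˣ →* Fˣ).range ⊔ (langHom σ).ker := by
  apply le_antisymm
  · rintro _ ⟨g, hg, rfl⟩
    obtain ⟨b, hb⟩ := exists_fixed_rep_sp hm σ r hr hσ hinj g hg
    have hsplit : multSp hm g = (b⁻¹) ^ 2 * multSp hm (scalarSp b * g) := by
      rw [map_mul, multSp_scalarSp, ← mul_assoc, ← mul_pow, inv_mul_cancel, one_pow, one_mul]
    rw [hsplit]
    refine Subgroup.mul_mem_sup ⟨b⁻¹, rfl⟩ ?_
    rw [mem_ker_langHom, ← multSp_gmapSp, hb]
  · rw [sup_le_iff]
    constructor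
    · rintro _ ⟨μ, rfl⟩
      refine ⟨scalarSp μ, ?_, multSp_scalarSp hm μ⟩
      rw [SetLike.mem_coe, mem_centGSp_field hm]
      refine ⟨Units.map (σ : F →* F) μ * μ⁻¹, ?_⟩
      rw [gmapSp_scalarSp, ← map_mul, inv_mul_cancel_right]
    · intro u hu
      rw [mem_ker_langHom] at hu
      refine ⟨dgSp u, ?_, multSp_dgSp hm u⟩
      rw [SetLike.mem_coe, mem_centGSp_field hm]
      exact ⟨1, by rw [map_one, one_mul, gmapSp_dgSp σ u hu]⟩

end Cfsg.Agent.Lib.H7AutPSp
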