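import Cfsg.Agent.Lib.Helper5.Symp
import Cfsg.Prelude.Def_LieTypeDatum
import Mathlib

/-!
# Automorphisms of `PSp_{2m}(F)` induced from `Sp_{2m}(F)` (helper7)

Lifts of automorphisms to the central quotient, conjugation by conformal symplectic matrices (`DhSp`),
entrywise field automorphisms (`PhSp`), bridges to the predicates `IsInnerDiagonalAutPSp`,
`IsStdFieldAutPSp`, `IsInducedBySemilinearPSp`, and the basic relations.
-/

set_option autoImplicit false

namespace Cfsg.Agent.Lib.H7AutPSp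

open Matrix Cfsg Cfsg.Agent.Lib.Helper5.Symp

/-! ### automorphisms of a central quotient -/

section generic

variable {G : Type*} [Group G]

/-- the projection onto the central quotient -/
def prC : G →* G ⧸ Subgroup.center G := QuotientGroup.mk' (Subgroup.center G)

theorem prC_surjective : Function.Surjective (prC : G →* G ⧸ Subgroup.center G) :=
  QuotientGroup.mk'_surjective _

theorem prC_eq_iff (x y : G) : prC x = prC y ↔ x⁻¹ * y ∈ Subgroup.center G := QuotientGroup.eq

/-- an automorphism induces one of the central quotient -/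
noncomputable def liftCFun (e : MulAut G) : MulAut (G ⧸ Subgroup.center G) :=
  QuotientGroup.congr (Subgroup.center G) (Subgroup.center G) e
    (Subgroup.characteristic_iff_map_eq.1 inferInstance e)

theorem liftCFun_pr (e : MulAut G) (s : G) : liftCFun e (prC s) = prC (e s) := rfl

theorem autC_ext {β γ : MulAut (G ⧸ Subgroup.center G)} (h : ∀ s : G, β (prC s) = γ (prC s)) :
    β = γ := by
  ext x
  obtain ⟨s, rfl⟩ := prC_surjective x
  exact h s

/-- `liftCFun` as a homomorphism -/
noncomputable def liftC : MulAut G →* MulAut (G ⧸ Subgroup.center G) where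
  toFun := liftCFun
  map_one' := autC_ext fun s => by rw [liftCFun_pr]; rfl
  map_mul' e e' := autC_ext fun s => by
    rw [liftCFun_pr, MulAut.mul_apply, MulAut.mul_apply, liftCFun_pr, liftCFun_pr]

theorem liftC_pr (e : MulAut G) (s : G) : liftC e (prC s) = prC (e s) := rfl

theorem liftC_conj (s : G) : liftC (MulAut.conj s) = MulAut.conj (prC s) := by
  apply autC_ext
  intro t
  rw [liftC_pr, MulAut.conj_apply, MulAut.conj_apply, map_mul, map_mul, map_inv]

end generic

variable {m : ℕ} {F : Type*} [Field F]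

abbrev Spm (m : ℕ) (F : Type*) [Field F] := ↥(Matrix.symplecticGroup (Fin m) F)
abbrev PSpm (m : ℕ) (F : Type*) [Field F] := Cfsg.PSp m F

/-! ### the conformal symplectic group -/

theorem smulJ_form (c : F) (u v : Fin m ⊕ Fin m → F) :
    u ⬝ᵥ (((c • J (Fin m) F : Matrix (Fin m ⊕ Fin m) (Fin m ⊕ Fin m) F)) *ᵥ v) =
      c * sympForm m F u v := by
  unfold sympForm
  rw [Matrix.smul_mulVec, dotProduct_smul, smul_eq_mul]

theorem mem_GSp_iff (g : GL (Fin m ⊕ Fin m) F) :
    g ∈ Cfsg.GSp m F ↔ ∃ c : Fˣ, g.valᵀ * J (Fin m) F * g.val = (c : F) • J (Fin m) F := by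
  constructor
  · rintro ⟨c, hc⟩
    refine ⟨c, ?_⟩
    ext i j
    have h := hc (Pi.single i 1) (Pi.single j 1)
    rw [sympForm_mulVec_mulVec, ← smulJ_form] at h
    simpa using h
  · rintro ⟨c, hc⟩
    refine ⟨c, fun u v => ?_⟩
    rw [sympForm_mulVec_mulVec, hc, smulJ_form]

theorem GSp_form (g : ↥(Cfsg.GSp m F)) : ∃ c : Fˣ, ∀ u v : Fin m ⊕ Fin m → F,
    sympForm m F (g.1.val *ᵥ u) (g.1.val *ᵥ v) = (c : F) * sympForm m F u v := g.2

theorem val_inv_mulVec (g : GL (Fin m ⊕ Fin m) F) (u : Fin m ⊕ Fin m → F) :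
    g.val *ᵥ (g⁻¹.val *ᵥ u) = u := by
  rw [Matrix.mulVec_mulVec, ← Units.val_mul, mul_inv_cancel, Units.val_one, Matrix.one_mulVec]

theorem GSp_form_inv (g : ↥(Cfsg.GSp m F)) (c : Fˣ)
    (hc : ∀ u v : Fin m ⊕ Fin m → F,
      sympForm m F (g.1.val *ᵥ u) (g.1.val *ᵥ v) = (c : F) * sympForm m F u v)
    (u v : Fin m ⊕ Fin m → F) :
    sympForm m F (g.1⁻¹.val *ᵥ u) (g.1⁻¹.val *ᵥ v) = (c : F)⁻¹ * sympForm m F u v := by
  have h := hc (g.1⁻¹.val *ᵥ u) (g.1⁻¹.val *ᵥ v)
  rw [val_inv_mulVec, val_inv_mulVec] at h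
  rw [h, ← mul_assoc, inv_mul_cancel₀ c.ne_zero, one_mul]

/-! ### conjugation by a conformal symplectic matrix -/

/-- conjugation by a conformal symplectic matrix, on `Sp` -/
def conjSpFun (g : ↥(Cfsg.GSp m F)) (s : Spm m F) : Spm m F :=
  ⟨g.1.val * s.val * g.1⁻¹.val, by
    obtain ⟨c, hc⟩ := GSp_form g
    rw [mem_iff_sympForm]
    intro u v
    rw [← Matrix.mulVec_mulVec, ← Matrix.mulVec_mulVec, ← Matrix.mulVec_mulVec,
      ← Matrix.mulVec_mulVec, hc, sympForm_of_mem m s.2, GSp_form_inv g c hc, ← mul_assoc,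
      mul_inv_cancel₀ c.ne_zero, one_mul]⟩

theorem conjSpFun_val (g : ↥(Cfsg.GSp m F)) (s : Spm m F) :
    (conjSpFun g s).val = g.1.val * s.val * g.1⁻¹.val := rfl

theorem conjSpFun_mul (g : ↥(Cfsg.GSp m F)) (s t : Spm m F) :
    conjSpFun g (s * t) = conjSpFun g s * conjSpFun g t := by
  apply Subtype.ext
  show g.1.val * (s.val * t.val) * g.1⁻¹.val =
    (g.1.val * s.val * g.1⁻¹.val) * (g.1.val * t.val * g.1⁻¹.val)
  have : g.1⁻¹.val * g.1.val = 1 := by rw [← Units.val_mul, inv_mul_cancel, Units.val_one]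
  calc g.1.val * (s.val * t.val) * g.1⁻¹.val
      = g.1.val * s.val * 1 * t.val * g.1⁻¹.val := by simp only [mul_one, Matrix.mul_assoc]
    _ = _ := by rw [← this]; simp only [Matrix.mul_assoc]

theorem conjSpFun_comp (g h : ↥(Cfsg.GSp m F)) (s : Spm m F) :
    conjSpFun g (conjSpFun h s) = conjSpFun (g * h) s := by
  apply Subtype.ext
  rw [conjSpFun_val, conjSpFun_val, conjSpFun_val]
  show _ = (g.1 * h.1).val * s.val * ((g.1 * h.1)⁻¹).val
  rw [_root_.mul_inv_rev, Units.val_mul, Units.val_mul]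
  simp only [Matrix.mul_assoc]

theorem conjSpFun_one (s : Spm m F) : conjSpFun (1 : ↥(Cfsg.GSp m F)) s = s := by
  apply Subtype.ext
  rw [conjSpFun_val]
  show (1 : GL (Fin m ⊕ Fin m) F).val * s.val * ((1 : GL (Fin m ⊕ Fin m) F)⁻¹).val = s.val
  rw [inv_one, Units.val_one, Matrix.one_mul, Matrix.mul_one]

/-- conjugation as a homomorphism `GSp → Aut(Sp)` -/
def conjSp : ↥(Cfsg.GSp m F) →* MulAut (Spm m F) where
  toFun g :=
    { toFun := conjSpFun g
      invFun := conjSpFun g⁻¹
      left_inv := fun s => by rw [conjSpFun_comp, inv_mul_cancel, conjSpFun_one]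
      right_inv := fun s => by rw [conjSpFun_comp, mul_inv_cancel, conjSpFun_one]
      map_mul' := conjSpFun_mul g }
  map_one' := by
    ext s : 1
    exact conjSpFun_one s
  map_mul' g h := by
    ext s : 1
    exact (conjSpFun_comp g h s).symm

theorem conjSp_apply (g : ↥(Cfsg.GSp m F)) (s : Spm m F) : conjSp g s = conjSpFun g s := rfl

/-! ### entrywise field automorphisms -/

theorem J_map' {F' : Type*} [Field F'] (f : F →+* F') :
    (J (Fin m) F).map f = J (Fin m) F' := by
  ext i j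
  rcases i with i | i <;> rcases j with j | j <;>
    simp [Matrix.J, Matrix.one_apply, apply_ite f]

/-- a field automorphism applied to the entries of a symplectic matrix -/
def fieldSpFun (σ : RingAut F) (s : Spm m F) : Spm m F :=
  ⟨s.val.map σ, by
    rw [SymplecticGroup.mem_iff]
    have h := SymplecticGroup.mem_iff.1 s.2
    have h2 := congrArg (fun M => M.map (σ : F →+* F)) h
    simp only [Matrix.map_mul, Matrix.transpose_map, J_map'] at h2
    rw [← Matrix.transpose_map]
    exact h2⟩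

theorem fieldSpFun_val (σ : RingAut F) (s : Spm m F) : (fieldSpFun σ s).val = s.val.map σ := rfl

/-- entrywise field automorphisms as a homomorphism `Aut(F) → Aut(Sp)` -/
def fieldSp : RingAut F →* MulAut (Spm m F) where
  toFun σ :=
    { toFun := fieldSpFun σ
      invFun := fieldSpFun σ.symm
      left_inv := fun s => by
        apply Subtype.ext
        ext i j
        simp [fieldSpFun_val]
      right_inv := fun s => by
        apply Subtype.ext
        ext i j
        simp [fieldSpFun_val]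
      map_mul' := fun s t => by
        apply Subtype.ext
        show (s.val * t.val).map σ = s.val.map σ * t.val.map σ
        ext i j
        simp only [Matrix.map_apply, Matrix.mul_apply, map_sum, map_mul] }
  map_one' := by
    ext s : 1
    apply Subtype.ext
    ext i j
    rfl
  map_mul' σ τ := by
    ext s : 1
    apply Subtype.ext
    ext i j
    rfl

theorem fieldSp_val (σ : RingAut F) (s : Spm m F) : (fieldSp σ s).val = s.val.map σ := rfl

/-! ### the induced automorphisms of `PSp` -/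

/-- inner-diagonal automorphisms -/
noncomputable def DhSp : ↥(Cfsg.GSp m F) →* MulAut (PSpm m F) := liftC.comp conjSp

/-- standard field automorphisms -/
noncomputable def PhSp : RingAut F →* MulAut (PSpm m F) := liftC.comp fieldSp

theorem DhSp_pr (g : ↥(Cfsg.GSp m F)) (s : Spm m F) : DhSp g (prC s) = prC (conjSpFun g s) := rfl

theorem PhSp_pr (σ : RingAut F) (s : Spm m F) : PhSp σ (prC s) = prC (fieldSpFun σ s) := rfl

theorem map_refl (M : Matrix (Fin m ⊕ Fin m) (Fin m ⊕ Fin m) F) :
    M.map (RingEquiv.refl F) = M := by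
  ext i j
  rfl

/-- the automorphism induced by the semilinear map `v ↦ g σ(v)` -/
theorem semilinear_iff (g : ↥(Cfsg.GSp m F)) (σ : RingAut F) (β : MulAut (PSpm m F)) :
    Cfsg.IsInducedBySemilinearPSp g.1 σ β ↔ β = DhSp g * PhSp σ := by
  constructor
  · intro h
    apply autC_ext
    intro s
    rw [MulAut.mul_apply, PhSp_pr, DhSp_pr]
    exact h s (conjSpFun g (fieldSpFun σ s)) rfl
  · rintro rfl s s' hs'
    have e : s' = conjSpFun g (fieldSpFun σ s) := Subtype.ext hs'
    rw [e]
    rfl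

theorem innerDiagSp_iff (β : MulAut (PSpm m F)) :
    Cfsg.IsInnerDiagonalAutPSp β ↔ ∃ g : ↥(Cfsg.GSp m F), β = DhSp g := by
  constructor
  · rintro ⟨g, hg, h⟩
    refine ⟨⟨g, hg⟩, ?_⟩
    have := (semilinear_iff ⟨g, hg⟩ (RingEquiv.refl F) β).1 h
    rw [this]
    have h1 : (PhSp (RingEquiv.refl F) : MulAut (PSpm m F)) = 1 := map_one PhSp
    rw [h1, mul_one]
  · rintro ⟨g, rfl⟩
    refine ⟨g.1, g.2, ?_⟩
    rw [semilinear_iff g (RingEquiv.refl F)]
    have h1 : (PhSp (RingEquiv.refl F) : MulAut (PSpm m F)) = 1 := map_one PhSp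
    rw [h1, mul_one]

theorem stdFieldSp_iff (σ : RingAut F) (β : MulAut (PSpm m F)) :
    Cfsg.IsStdFieldAutPSp σ β ↔ β = PhSp σ := by
  constructor
  · intro h
    apply autC_ext
    intro s
    rw [PhSp_pr]
    exact h s (fieldSpFun σ s) rfl
  · rintro rfl s s' hs'
    have e : s' = fieldSpFun σ s := Subtype.ext hs'
    rw [e]
    rfl

/-- `Inndiag(PSp)` is the image of `DhSp` -/
theorem inndiagPSp_eq : Cfsg.inndiagPSp m F = (DhSp : ↥(Cfsg.GSp m F) →* MulAut (PSpm m F)).range := by
  unfold Cfsg.inndiagPSp Cfsg.autSubgroupOf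
  apply le_antisymm
  · rw [Subgroup.closure_le]
    intro β hβ
    obtain ⟨g, hg⟩ := (innerDiagSp_iff β).1 hβ
    exact ⟨g, hg.symm⟩
  · rintro _ ⟨g, rfl⟩
    exact Subgroup.subset_closure ((innerDiagSp_iff _).2 ⟨g, rfl⟩)

/-! ### relations -/

/-- a field automorphism applied to a conformal symplectic matrix -/
def gmapSp (σ : RingAut F) : ↥(Cfsg.GSp m F) →* ↥(Cfsg.GSp m F) :=
  ((Matrix.GeneralLinearGroup.map (σ : F →+* F)).comp (Cfsg.GSp m F).subtype).codRestrict _
    (fun g => by
      obtain ⟨c, hc⟩ := (mem_GSp_iff g.1).1 g.2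
      rw [mem_GSp_iff]
      refine ⟨Units.map (σ : F →* F) c, ?_⟩
      have h2 := congrArg (fun M => M.map (σ : F →+* F)) hc
      simp only [Matrix.map_mul, Matrix.transpose_map, J_map'] at h2
      have e : (((c : F) • J (Fin m) F).map (σ : F →+* F)) = σ (c : F) • J (Fin m) F := by
        ext i j
        rw [Matrix.map_apply, Matrix.smul_apply, Matrix.smul_apply, smul_eq_mul, smul_eq_mul,
          map_mul]
        congr 1
        exact congrFun (congrFun (J_map' (m := m) (σ : F →+* F)) i) j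
      rw [e] at h2
      show (g.1.val.map σ)ᵀ * J (Fin m) F * g.1.val.map σ = _
      rw [← Matrix.transpose_map]
      exact h2)

theorem gmapSp_val (σ : RingAut F) (g : ↥(Cfsg.GSp m F)) :
    (gmapSp σ g).1.val = g.1.val.map σ := rfl

theorem PhSp_DhSp (σ : RingAut F) (g : ↥(Cfsg.GSp m F)) :
    PhSp σ * DhSp g = DhSp (gmapSp σ g) * (PhSp σ : MulAut (PSpm m F)) := by
  apply autC_ext
  intro s
  rw [MulAut.mul_apply, MulAut.mul_apply, DhSp_pr, PhSp_pr, PhSp_pr, DhSp_pr]
  congr 1
  apply Subtype.ext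
  rw [fieldSpFun_val, conjSpFun_val, conjSpFun_val, fieldSpFun_val, gmapSp_val]
  have e : ((gmapSp σ g).1⁻¹).val = (g.1⁻¹.val).map σ := by
    have : (gmapSp σ g).1⁻¹ = Matrix.GeneralLinearGroup.map (σ : F →+* F) g.1⁻¹ := by
      rw [map_inv]
      rfl
    rw [this]
    rfl
  rw [e]
  ext i j
  simp only [Matrix.map_apply, Matrix.mul_apply, map_sum, map_mul]

end Cfsg.Agent.Lib.H7AutPSp
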