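import Cfsg.Agent.Lib.Helper7.AutPSp.CosetFieldSp
import Mathlib

/-!
# `Inndiag(PSp) = Inn(PSp)` in characteristic 2, and the coset statement for `PSp` (helper7)
-/

set_option autoImplicit false

namespace Cfsg.Agent.Lib.H7AutPSp

open Matrix Cfsg Cfsg.Agent.Lib.Helper5.Symp Cfsg.Agent.Lib.H7AutPSL

variable {m : ℕ} {F : Type*} [Field F]

/-- a conformal symplectic matrix whose multiplier is a square is scalar times symplectic -/
theorem DhSp_mem_inn_of_sq (hm : 1 ≤ m) (g : ↥(Cfsg.GSp m F)) (μ : Fˣ)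
    (hμ : multSp hm g = μ ^ 2) : (DhSp g : MulAut (PSpm m F)) ∈ Cfsg.Inn (PSpm m F) := by
  have h1 : scalarSp μ⁻¹ * g ∈ (multSp hm : ↥(Cfsg.GSp m F) →* Fˣ).ker := by
    rw [MonoidHom.mem_ker, map_mul, multSp_scalarSp, hμ, ← mul_pow, inv_mul_cancel, one_pow]
  obtain ⟨s, hs⟩ := multSp_ker_le hm _ h1
  have h2 : (DhSp g : MulAut (PSpm m F)) = DhSp (toGSp s) := by
    rw [hs, map_mul, DhSp_scalarSp hm, one_mul]
  rw [h2, DhSp_toGSp]
  exact ⟨prC s, rfl⟩

/-- in characteristic 2 the inner-diagonal automorphisms are inner -/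
theorem DhSp_range_eq_inn_char2 [Finite F] (hchar : ringChar F = 2) (hm : 1 ≤ m) :
    (DhSp : ↥(Cfsg.GSp m F) →* MulAut (PSpm m F)).range = Cfsg.Inn (PSpm m F) := by
  apply le_antisymm
  · rintro _ ⟨g, rfl⟩
    have := Fintype.ofFinite F
    obtain ⟨μ, hμ⟩ := FiniteField.isSquare_of_char_two hchar ((multSp hm g : Fˣ) : F)
    have hμ0 : μ ≠ 0 := by
      rintro rfl
      rw [mul_zero] at hμ
      exact (multSp hm g).ne_zero hμ
    apply DhSp_mem_inn_of_sq hm g (Units.mk0 μ hμ0)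
    apply Units.ext
    rw [hμ, Units.val_pow_eq_pow_val, Units.val_mk0, pow_two]
  · exact inn_le_DhSp_range

/-- the data of a field automorphism of prime order -/
theorem field_data_sp (x : MulAut (PSpm m F)) (hx : Cfsg.IsFieldAutClassPSp x) :
    ∃ (α : MulAut (PSpm m F)) (σ : RingAut F), σ ≠ 1 ∧ α * x * α⁻¹ = PhSp σ := by
  obtain ⟨α, σ, hσ, hstd⟩ := hx
  exact ⟨α, σ, hσ, (stdFieldSp_iff σ _).1 hstd⟩

/-- **the coset statement for `PSp`**, given the normality of `Inndiag` -/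
theorem field_coset_iff [Finite F] (hm : 1 ≤ m)
    [hD : ((DhSp : ↥(Cfsg.GSp m F) →* MulAut (PSpm m F)).range).Normal]
    (x δ : MulAut (PSpm m F)) (hx : Cfsg.IsFieldAutClassPSp x) {r : ℕ} (hr : r.Prime)
    (hxr : orderOf x = r) (hδ : δ ∈ Cfsg.inndiagPSp m F) :
    orderOf (δ * x) = r ↔ Cfsg.IsConjUnder (Cfsg.inndiagPSp m F) x (δ * x) := by
  rw [inndiagPSp_eq] at hδ ⊢
  constructor
  · intro hy
    obtain ⟨α, σ, hσ, hα⟩ := field_data_sp x hx
    exact field_class_coset_sp hm x δ α σ hσ hα hr hxr hδ hy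
  · rintro ⟨h, -, e⟩
    rw [e, ← MulAut.conj_apply, MulEquiv.orderOf_eq]
    exact hxr

end Cfsg.Agent.Lib.H7AutPSp
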