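import Cfsg.Agent.Lib.Helper7.AutPSp.FieldCentSp
import Cfsg.Agent.Lib.Helper7.AutPSL.FieldCount
import Mathlib

/-!
# The class splitting number of a field automorphism of `PSp_{2m}(F)` (helper7)
-/

set_option autoImplicit false

namespace Cfsg.Agent.Lib.H7AutPSp

open Matrix Cfsg Cfsg.Agent.Lib.Helper5.Symp Cfsg.Agent.Lib.H7AutPSL

theorem geom_parity (q₀ r : ℕ) (hq : Odd q₀) : (∑ i ∈ Finset.range r, q₀ ^ i) % 2 = r % 2 := by
  induction r with
  | zero => simp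
  | succ r ih =>
    rw [Finset.sum_range_succ]
    have h1 : q₀ ^ r % 2 = 1 := Nat.odd_iff.1 (hq.pow)
    omega

/-- the arithmetic behind the count -/
theorem count_arith (p f r : ℕ) (hp : p.Prime) (hr : 0 < r) (hrf : r ∣ f) (hf : 1 ≤ f) :
    Nat.gcd (p ^ f - 1) (Nat.gcd 2 ((p ^ f - 1) / (p ^ (f / r) - 1))) =
      Nat.gcd (Nat.gcd 2 (p ^ f - 1)) r := by
  obtain ⟨k, rfl⟩ := hrf
  rw [Nat.mul_div_cancel_left k hr]
  have hk : 1 ≤ k := by
    rcases Nat.eq_zero_or_pos k with rfl | h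
    · rw [mul_zero] at hf; omega
    · exact h
  obtain ⟨q₀, hq₀⟩ : ∃ q₀, q₀ = p ^ k := ⟨_, rfl⟩
  have hq₀2 : 2 ≤ q₀ := by
    rw [hq₀]
    calc 2 ≤ p := hp.two_le
      _ = p ^ 1 := (pow_one p).symm
      _ ≤ p ^ k := Nat.pow_le_pow_right hp.pos hk
  have hq : p ^ (r * k) = q₀ ^ r := by rw [hq₀, ← pow_mul, mul_comm]
  rw [hq, ← hq₀, ← Nat.geomSum_eq hq₀2 r]
  rcases hp.eq_two_or_odd' with h2 | hodd
  · -- characteristic 2
    have hev : Even (q₀ ^ r) := by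
      rw [hq₀, h2, ← pow_mul]
      exact (Nat.even_pow.2 ⟨even_two, by positivity⟩)
    have hpos : 0 < q₀ ^ r := by positivity
    have hodd1 : (q₀ ^ r - 1) % 2 = 1 := by
      have := Nat.even_iff.1 hev
      omega
    have hcop : Nat.Coprime (q₀ ^ r - 1) 2 := by
      rw [Nat.coprime_comm, Nat.Prime.coprime_iff_not_dvd Nat.prime_two]
      omega
    have h1 : Nat.gcd (q₀ ^ r - 1) (Nat.gcd 2 (∑ i ∈ Finset.range r, q₀ ^ i)) = 1 :=
      Nat.Coprime.coprime_dvd_right (Nat.gcd_dvd_left _ _) hcop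
    have h3 : Nat.gcd 2 (q₀ ^ r - 1) = 1 := hcop.symm
    rw [h1, h3, Nat.gcd_one_left]
  · -- odd characteristic
    have hq₀odd : Odd q₀ := by rw [hq₀]; exact hodd.pow
    have hqodd : Odd (q₀ ^ r) := hq₀odd.pow
    have hev1 : (q₀ ^ r - 1) % 2 = 0 := by
      have := Nat.odd_iff.1 hqodd
      omega
    have h3 : Nat.gcd 2 (q₀ ^ r - 1) = 2 := Nat.gcd_eq_left (Nat.dvd_of_mod_eq_zero hev1)
    have h4 : Nat.gcd 2 (∑ i ∈ Finset.range r, q₀ ^ i) = Nat.gcd 2 r := by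
      rw [Nat.gcd_rec 2, geom_parity q₀ r hq₀odd, ← Nat.gcd_rec 2]
    rw [h3, h4]
    apply Nat.gcd_eq_right
    exact (Nat.gcd_dvd_left 2 r).trans (Nat.dvd_of_mod_eq_zero hev1)

variable {m : ℕ} {F : Type*} [Field F]

/-- **the class splitting number of a standard field automorphism of `PSp`** -/
theorem splitClassCount_field_sp [Fintype F] (hm : 1 ≤ m) (σ : RingAut F) (r : ℕ) (hr : 0 < r)
    (hσ : σ ^ r = 1) (hinj : ∀ i j, i < r → j < r → σ ^ i = σ ^ j → i = j) (q₀ : ℕ)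
    (hker : Nat.card (langHom σ).ker = q₀ - 1) :
    Cfsg.splitClassCount (DhSp : ↥(Cfsg.GSp m F) →* MulAut (PSpm m F)).range
        (Cfsg.Inn (PSpm m F)) (PhSp σ) =
      Nat.gcd (Fintype.card F - 1) (Nat.gcd 2 ((Fintype.card F - 1) / (q₀ - 1))) := by
  have hdvd : q₀ - 1 ∣ Fintype.card F - 1 := by
    rw [← hker, ← Nat.card_eq_fintype_card, ← Nat.card_units]
    exact Subgroup.card_subgroup_dvd_card _
  obtain ⟨M, hM⟩ : ∃ M, M = (Fintype.card F - 1) / (q₀ - 1) := ⟨_, rfl⟩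
  have hG : Nat.card Fˣ = M * (q₀ - 1) := by
    rw [Nat.card_units, Nat.card_eq_fintype_card, hM, Nat.div_mul_cancel hdvd]
  rw [splitClassCount_psp hm, mult_centGSp_field hm σ r hr hσ hinj,
    cyclic_subgroup_eq_range_pow (langHom σ).ker (q₀ - 1) M hker hG, range_pow_sup_range_pow,
    IsCyclic.index_powMonoidHom_range, ← hM, Nat.card_units, Nat.card_eq_fintype_card]

end Cfsg.Agent.Lib.H7AutPSp
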