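import Cfsg.Agent.Lib.Helper7.AutPSp.FieldCountSp
import Mathlib

/-!
# `C_{Inndiag}(field automorphism) ≅ PGSp_{2m}(F₀)` (helper7)
-/

set_option autoImplicit false

namespace Cfsg.Agent.Lib.H7AutPSp

open Matrix Cfsg Cfsg.Agent.Lib.Helper5.Symp Cfsg.Agent.Lib.H7AutPSL

universe u v

variable {m : ℕ} {F : Type u} [Field F] {F₀ : Type v} [Field F₀]

/-- base change `GSp(F₀) → GSp(F)` -/
def mapGSp (ι : F₀ →+* F) : ↥(Cfsg.GSp m F₀) →* ↥(Cfsg.GSp m F) :=
  ((Matrix.GeneralLinearGroup.map ι).comp (Cfsg.GSp m F₀).subtype).codRestrict _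
    (fun g => by
      obtain ⟨c, hc⟩ := (mem_GSp_iff g.1).1 g.2
      rw [mem_GSp_iff]
      refine ⟨Units.map (ι : F₀ →* F) c, ?_⟩
      have h2 := congrArg (fun M => M.map ι) hc
      simp only [Matrix.map_mul, Matrix.transpose_map, J_map'] at h2
      have e : (((c : F₀) • J (Fin m) F₀).map ι) = ι (c : F₀) • J (Fin m) F := by
        ext i j
        rw [Matrix.map_apply, Matrix.smul_apply, Matrix.smul_apply, smul_eq_mul, smul_eq_mul,
          map_mul]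
        congr 1
        exact congrFun (congrFun (J_map' (m := m) ι) i) j
      rw [e] at h2
      show (g.1.val.map ι)ᵀ * J (Fin m) F * g.1.val.map ι = _
      rw [← Matrix.transpose_map]
      exact h2)

theorem mapGSp_val (ι : F₀ →+* F) (g : ↥(Cfsg.GSp m F₀)) :
    (mapGSp ι g).1.val = g.1.val.map ι := rfl

/-- the homomorphism `GSp(F₀) → C_{Inndiag}(PhSp σ)` -/
noncomputable def gspHom (hm : 1 ≤ m) (σ : RingAut F) (ι : F₀ →+* F) (hι : ∀ s, σ (ι s) = ι s) :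
    ↥(Cfsg.GSp m F₀) →* ↥((DhSp : ↥(Cfsg.GSp m F) →* MulAut (PSpm m F)).range ⊓
      Subgroup.centralizer {(PhSp σ : MulAut (PSpm m F))}) :=
  (DhSp.comp (mapGSp ι)).codRestrict _ (fun g => by
    refine Subgroup.mem_inf.2 ⟨⟨_, rfl⟩, ?_⟩
    have h1 : mapGSp ι g ∈ centGSp (PhSp σ : MulAut (PSpm m F)) := by
      rw [mem_centGSp_field hm]
      refine ⟨1, ?_⟩
      rw [map_one, one_mul]
      apply gsp_ext
      rw [gmapSp_val, mapGSp_val]
      ext i j
      exact hι (g.1.val i j)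
    exact h1)

theorem gspHom_val (hm : 1 ≤ m) (σ : RingAut F) (ι : F₀ →+* F) (hι : ∀ s, σ (ι s) = ι s)
    (g : ↥(Cfsg.GSp m F₀)) :
    ((gspHom hm σ ι hι g : ↥((DhSp : ↥(Cfsg.GSp m F) →* MulAut (PSpm m F)).range ⊓
      Subgroup.centralizer {(PhSp σ : MulAut (PSpm m F))})) : MulAut (PSpm m F)) =
      DhSp (mapGSp ι g) := rfl

theorem gspHom_surjective (hm : 1 ≤ m) (σ : RingAut F) (r : ℕ) (hr : 0 < r) (hσ : σ ^ r = 1)
    (hinj : ∀ i j, i < r → j < r → σ ^ i = σ ^ j → i = j) (ι : F₀ →+* F)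
    (hι : ∀ t : F, σ t = t ↔ ∃ s, ι s = t) :
    Function.Surjective (gspHom hm σ ι (fun s => (hι (ι s)).2 ⟨s, rfl⟩)) := by
  rintro ⟨c, hc⟩
  obtain ⟨⟨g, rfl⟩, hcent⟩ := Subgroup.mem_inf.1 hc
  have hg : g ∈ centGSp (PhSp σ : MulAut (PSpm m F)) := hcent
  obtain ⟨b, hb⟩ := exists_fixed_rep_sp hm σ r hr hσ hinj g hg
  obtain ⟨g', hg'⟩ : ∃ g', g' = scalarSp b * g := ⟨_, rfl⟩
  rw [← hg'] at hb
  have hentry : ∀ i j, ∃ s, ι s = g'.1.val i j := by
    intro i j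
    rw [← hι]
    have h1 : (gmapSp σ g').1.val = g'.1.val := by rw [hb]
    rw [gmapSp_val] at h1
    have := congrFun (congrFun h1 i) j
    rw [Matrix.map_apply] at this
    exact this
  choose M₀ hM₀ using hentry
  have hmap : (Matrix.of M₀).map ι = g'.1.val := by
    ext i j
    rw [Matrix.map_apply, Matrix.of_apply, hM₀]
  -- the multiplier descends
  have hmfix : σ ((multSp hm g' : Fˣ) : F) = ((multSp hm g' : Fˣ) : F) := by
    rw [← multSp_gmapSp, hb]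
  obtain ⟨c₀, hc₀⟩ := (hι _).1 hmfix
  have hc₀0 : c₀ ≠ 0 := by
    rintro rfl
    rw [map_zero] at hc₀
    exact (multSp hm g').ne_zero hc₀.symm
  have hform : (Matrix.of M₀)ᵀ * J (Fin m) F₀ * Matrix.of M₀ = c₀ • J (Fin m) F₀ := by
    have hinjm : Function.Injective (fun M : Matrix (Fin m ⊕ Fin m) (Fin m ⊕ Fin m) F₀ => M.map ι) := by
      intro A B hAB
      ext i j
      have := congrFun (congrFun hAB i) j
      simp only [Matrix.map_apply] at this
      exact ι.injective this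
    apply hinjm
    simp only [Matrix.map_mul, Matrix.transpose_map, J_map']
    rw [hmap, multSp_spec hm g', ← hc₀]
    ext i j
    rw [Matrix.map_apply, Matrix.smul_apply, Matrix.smul_apply, smul_eq_mul, smul_eq_mul, map_mul]
    congr 1
    exact (congrFun (congrFun (J_map' (m := m) ι) i) j).symm
  have hdet : (Matrix.of M₀).det ≠ 0 := by
    intro h0
    have h1 : ι (Matrix.of M₀).det = g'.1.val.det := by
      rw [RingHom.map_det, RingHom.mapMatrix_apply, hmap]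
    rw [h0, map_zero] at h1
    have h2 : IsUnit g'.1.val.det := (Matrix.isUnit_iff_isUnit_det _).1 g'.1.isUnit
    exact h2.ne_zero h1.symm
  refine ⟨⟨Matrix.GeneralLinearGroup.mkOfDetNeZero (Matrix.of M₀) hdet,
    (mem_GSp_iff _).2 ⟨Units.mk0 c₀ hc₀0, hform⟩⟩, ?_⟩
  apply Subtype.ext
  rw [gspHom_val]
  have e : mapGSp ι ⟨Matrix.GeneralLinearGroup.mkOfDetNeZero (Matrix.of M₀) hdet,
      (mem_GSp_iff _).2 ⟨Units.mk0 c₀ hc₀0, hform⟩⟩ = g' := by
    apply gsp_ext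
    rw [mapGSp_val]
    exact hmap
  rw [e, hg', map_mul, DhSp_scalarSp hm, one_mul]

theorem gspHom_ker (hm : 1 ≤ m) (σ : RingAut F) (ι : F₀ →+* F) (hι : ∀ s, σ (ι s) = ι s) :
    (gspHom hm σ ι hι).ker = (Cfsg.Geo.scalars (Fin m ⊕ Fin m) F₀).subgroupOf (Cfsg.GSp m F₀) := by
  ext h
  rw [MonoidHom.mem_ker, Subtype.ext_iff, gspHom_val, Subgroup.mem_subgroupOf,
    Cfsg.Geo.mem_scalars_iff]
  show (DhSp (mapGSp ι h) : MulAut (PSpm m F)) = 1 ↔ _
  rw [DhSp_eq_one_iff hm, mapGSp_val]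
  constructor
  · rintro ⟨a, ha⟩
    have hent : ∀ i j, ι (h.1.val i j) = if i = j then (a : F) else 0 := by
      intro i j
      have := congrFun (congrFun ha i) j
      rw [Matrix.map_apply, Matrix.smul_apply, Matrix.one_apply, smul_eq_mul, mul_ite, mul_one,
        mul_zero] at this
      exact this
    have ha₀ : ι (h.1.val (Sum.inl ⟨0, hm⟩) (Sum.inl ⟨0, hm⟩)) = a := by
      rw [hent, if_pos rfl]
    have h0 : h.1.val (Sum.inl ⟨0, hm⟩) (Sum.inl ⟨0, hm⟩) ≠ 0 := by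
      intro h0
      rw [h0, map_zero] at ha₀
      exact a.ne_zero ha₀.symm
    refine ⟨Units.mk0 _ h0, ?_⟩
    ext i j
    apply ι.injective
    rw [hent, Units.val_mk0, Matrix.smul_apply, Matrix.one_apply, smul_eq_mul, mul_ite, mul_one,
      mul_zero, apply_ite ι, ha₀, map_zero]
  · rintro ⟨a₀, ha₀⟩
    refine ⟨Units.map (ι : F₀ →* F) a₀, ?_⟩
    rw [ha₀]
    ext i j
    rw [Matrix.map_apply, Matrix.smul_apply, Matrix.smul_apply, Matrix.one_apply, Matrix.one_apply,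
      smul_eq_mul, smul_eq_mul, map_mul, apply_ite ι, map_one, map_zero]
    rfl

/-- **`C_{Inndiag}(PhSp σ) ≅ PGSp_{2m}(F₀)`** -/
theorem nonempty_cent_field_equiv_sp (hm : 1 ≤ m) (σ : RingAut F) (r : ℕ) (hr : 0 < r)
    (hσ : σ ^ r = 1) (hinj : ∀ i j, i < r → j < r → σ ^ i = σ ^ j → i = j) (ι : F₀ →+* F)
    (hι : ∀ t : F, σ t = t ↔ ∃ s, ι s = t) :
    Nonempty (↥((DhSp : ↥(Cfsg.GSp m F) →* MulAut (PSpm m F)).range ⊓
      Subgroup.centralizer {(PhSp σ : MulAut (PSpm m F))}) ≃* Cfsg.PGSp m F₀) := by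
  have e1 := QuotientGroup.quotientKerEquivOfSurjective _
    (gspHom_surjective hm σ r hr hσ hinj ι hι)
  have e2 := QuotientGroup.quotientMulEquivOfEq
    (gspHom_ker hm σ ι (fun s => (hι (ι s)).2 ⟨s, rfl⟩))
  exact ⟨e1.symm.trans e2⟩

end Cfsg.Agent.Lib.H7AutPSp
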