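import Cfsg.Agent.Lib.Helper7.AutPSp.Basic
import Mathlib

/-!
# The kernel of `GSp → Aut(PSp)` and the independence of field automorphisms (helper7)
-/

set_option autoImplicit false

namespace Cfsg.Agent.Lib.H7AutPSp

open Matrix Cfsg Cfsg.Agent.Lib.Helper5.Symp

variable {m : ℕ} {F : Type*} [Field F]

/-- a matrix for which every vector is an eigenvector is scalar -/
theorem scalar_of_eigen {κ : Type*} [Fintype κ] [DecidableEq κ] (A : Matrix κ κ F)
    (h : ∀ v : κ → F, ∃ a : F, A *ᵥ v = a • v) : ∃ a : F, A = a • (1 : Matrix κ κ F) := by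
  classical
  choose a ha using h
  rcases isEmpty_or_nonempty κ with he | ⟨⟨j₀⟩⟩
  · exact ⟨0, by ext i; exact (he.false i).elim⟩
  · have hall : ∀ j, a (Pi.single j 1) = a (Pi.single j₀ 1) := by
      intro j
      by_cases hj : j = j₀
      · rw [hj]
      · have h1 := ha (Pi.single j 1 + Pi.single j₀ 1)
        rw [Matrix.mulVec_add, ha, ha, smul_add] at h1
        have e1 := congrFun h1 j
        have e2 := congrFun h1 j₀
        simp only [Pi.add_apply, Pi.smul_apply, Pi.single_eq_same, Pi.single_eq_of_ne hj,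
          Pi.single_eq_of_ne (Ne.symm hj), smul_eq_mul, mul_one, mul_zero, add_zero, zero_add]
          at e1 e2
        rw [e1, e2]
    refine ⟨a (Pi.single j₀ 1), ?_⟩
    ext i j
    have h2 := congrFun (ha (Pi.single j 1)) i
    rw [Matrix.mulVec_single_one, hall j] at h2
    rw [Matrix.smul_apply, Matrix.one_apply, smul_eq_mul]
    rw [Pi.smul_apply, Pi.single_apply, smul_eq_mul] at h2
    exact h2

/-- a matrix commuting with all symplectic transvections is scalar -/
theorem scalar_of_comm_transvections (A : Matrix (Fin m ⊕ Fin m) (Fin m ⊕ Fin m) F)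
    (h : ∀ v : Fin m ⊕ Fin m → F, A * sympTransvection m v 1 = sympTransvection m v 1 * A) :
    ∃ a : F, A = a • (1 : Matrix (Fin m ⊕ Fin m) (Fin m ⊕ Fin m) F) := by
  apply scalar_of_eigen
  intro v
  by_cases hv : v = 0
  · exact ⟨0, by rw [hv, Matrix.mulVec_zero, smul_zero]⟩
  · obtain ⟨x, hx⟩ := exists_sympForm_ne_zero m hv
    have hx' : sympForm m F x v ≠ 0 := by
      rw [sympForm_swap]
      exact neg_ne_zero.2 hx
    have h1 := congrArg (fun M => M *ᵥ x) (h v)
    simp only [← Matrix.mulVec_mulVec, sympTransvection_mulVec, one_mul] at h1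
    rw [Matrix.mulVec_add, Matrix.mulVec_smul] at h1
    have h2 := add_left_cancel h1
    refine ⟨(sympForm m F x v)⁻¹ * sympForm m F (A *ᵥ x) v, ?_⟩
    rw [← smul_smul, ← h2, smul_smul, inv_mul_cancel₀ hx', one_smul]

/-- central elements of the symplectic group are scalar -/
theorem center_scalar (z : Spm m F) (hz : z ∈ Subgroup.center (Spm m F)) :
    ∃ a : F, z.val = a • (1 : Matrix (Fin m ⊕ Fin m) (Fin m ⊕ Fin m) F) := by
  apply scalar_of_comm_transvections
  intro v
  have := Subgroup.mem_center_iff.1 hz (sympT m v 1)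
  exact (congrArg Subtype.val this).symm

theorem sympTransvection_self (v : Fin m ⊕ Fin m → F) (c : F) :
    sympTransvection m v c *ᵥ v = v := by
  rw [sympTransvection_mulVec, sympForm_self, mul_zero, zero_smul, add_zero]

/-- comparing a conjugate of a transvection with a transvection in the same direction -/
theorem transvection_conj_scalar (g : GL (Fin m ⊕ Fin m) F) (v : Fin m ⊕ Fin m → F) (hv : v ≠ 0)
    (c c' a b : F)
    (h : a • (g.val * sympTransvection m v c * g⁻¹.val) = b • sympTransvection m v c') : a = b := by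
  by_contra hab
  have hab' : a - b ≠ 0 := sub_ne_zero.2 hab
  obtain ⟨w, hw⟩ : ∃ w, w = g.val *ᵥ v := ⟨_, rfl⟩
  have hw0 : w ≠ 0 := by
    intro h0
    apply hv
    have : g⁻¹.val *ᵥ w = v := by
      rw [hw, Matrix.mulVec_mulVec, ← Units.val_mul, inv_mul_cancel, Units.val_one,
        Matrix.one_mulVec]
    rw [← this, h0, Matrix.mulVec_zero]
  have h1 := congrArg (fun M => M *ᵥ w) h
  simp only [Matrix.smul_mulVec] at h1
  have e1 : (g.val * sympTransvection m v c * g⁻¹.val) *ᵥ w = w := by
    rw [hw, Matrix.mulVec_mulVec, Matrix.mul_assoc, Matrix.mul_assoc, ← Units.val_mul,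
      inv_mul_cancel, Units.val_one, Matrix.mul_one, ← Matrix.mulVec_mulVec,
      sympTransvection_self]
  rw [e1, sympTransvection_mulVec, smul_add] at h1
  -- `(a - b) w = (b c' f(w, v)) v`
  have h2 : (a - b) • w = (b * (c' * sympForm m F w v)) • v := by
    rw [sub_smul, h1, add_sub_cancel_left, smul_smul]
  have h3 : w = ((a - b)⁻¹ * (b * (c' * sympForm m F w v))) • v := by
    rw [← smul_smul, ← h2, smul_smul, inv_mul_cancel₀ hab', one_smul]
  have h4 : sympForm m F w v = 0 := by
    rw [h3, sympForm_smul_left, sympForm_self, mul_zero]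
  rw [h4, mul_zero, mul_zero, zero_smul] at h2
  rcases smul_eq_zero.1 h2 with h5 | h5
  · exact hab' h5
  · exact hw0 h5

/-- the matrix relation behind `prC t = prC s` -/
theorem val_of_prC_eq (s t : Spm m F) (h : (prC t : PSpm m F) = prC s) :
    ∃ a : F, t.val = a • s.val := by
  rw [prC_eq_iff] at h
  have h' : s⁻¹ * t ∈ Subgroup.center (Spm m F) := by
    have := Subgroup.inv_mem _ h
    rwa [_root_.mul_inv_rev, inv_inv] at this
  obtain ⟨a, ha⟩ := center_scalar _ h'
  refine ⟨a, ?_⟩
  have e : t.val = s.val * (s⁻¹ * t).val := by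
    show t.val = (s * (s⁻¹ * t)).val
    rw [mul_inv_cancel_left]
  rw [e, ha, Matrix.mul_smul, Matrix.mul_one]

/-- **the kernel of `GSp → Aut(PSp)`** -/
theorem DhSp_eq_one_iff (hm : 1 ≤ m) (g : ↥(Cfsg.GSp m F)) :
    (DhSp g : MulAut (PSpm m F)) = 1 ↔
      ∃ a : Fˣ, g.1.val = (a : F) • (1 : Matrix (Fin m ⊕ Fin m) (Fin m ⊕ Fin m) F) := by
  constructor
  · intro h
    have hcomm : ∀ v : Fin m ⊕ Fin m → F,
        g.1.val * sympTransvection m v 1 = sympTransvection m v 1 * g.1.val := by
      intro v
      by_cases hv : v = 0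
      · have : sympTransvection m v (1 : F) = 1 := by
          unfold sympTransvection
          rw [hv, Matrix.zero_vecMulVec, smul_zero, add_zero]
        rw [this, Matrix.mul_one, Matrix.one_mul]
      · have h1 : (prC (conjSpFun g (sympT m v 1)) : PSpm m F) = prC (sympT m v 1) := by
          rw [← DhSp_pr, h]
          rfl
        obtain ⟨a, ha⟩ := val_of_prC_eq _ _ h1
        rw [conjSpFun_val] at ha
        have ha1 : (1 : F) = a := by
          apply transvection_conj_scalar g.1 v hv 1 1 1 a
          rw [one_smul]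
          exact ha
        rw [← ha1, one_smul] at ha
        have ha' : g.1.val * sympTransvection m v 1 * g.1⁻¹.val = sympTransvection m v 1 := ha
        have : g.1.val * sympTransvection m v 1 * g.1⁻¹.val * g.1.val =
            sympTransvection m v 1 * g.1.val := by
          rw [ha']
        rw [Matrix.mul_assoc, ← Units.val_mul, inv_mul_cancel, Units.val_one, Matrix.mul_one]
          at this
        exact this
    obtain ⟨a, ha⟩ := scalar_of_comm_transvections g.1.val hcomm
    have ha0 : a ≠ 0 := by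
      rintro rfl
      rw [zero_smul] at ha
      have h1 : g.1.val * g.1⁻¹.val = 1 := by
        rw [← Units.val_mul, mul_inv_cancel, Units.val_one]
      rw [ha, Matrix.zero_mul] at h1
      have := congrFun (congrFun h1 (Sum.inl ⟨0, hm⟩)) (Sum.inl ⟨0, hm⟩)
      rw [Matrix.zero_apply, Matrix.one_apply_eq] at this
      exact zero_ne_one this
    exact ⟨Units.mk0 a ha0, ha⟩
  · rintro ⟨a, ha⟩
    apply autC_ext
    intro s
    rw [DhSp_pr]
    show _ = prC s
    congr 1
    apply Subtype.ext
    have h1 : g.1.val * g.1⁻¹.val = 1 := by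
      rw [← Units.val_mul, mul_inv_cancel, Units.val_one]
    rw [ha, Matrix.smul_mul, Matrix.one_mul] at h1
    have hinv : g.1⁻¹.val = (a : F)⁻¹ • (1 : Matrix (Fin m ⊕ Fin m) (Fin m ⊕ Fin m) F) := by
      rw [← h1, smul_smul, inv_mul_cancel₀ a.ne_zero, one_smul]
    rw [conjSpFun_val, ha, hinv, Matrix.smul_mul, Matrix.one_mul, Matrix.mul_smul, Matrix.mul_one,
      smul_smul, inv_mul_cancel₀ a.ne_zero, one_smul]

end Cfsg.Agent.Lib.H7AutPSp
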